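import Groth.Prelude.Def_SGA4a
import Groth.Agent.Topos46.Eps
import Groth.Agent.SGA45.Cofan
import Mathlib.CategoryTheory.Sites.Canonical
import Mathlib.CategoryTheory.Sites.Continuous
import Mathlib.CategoryTheory.Limits.Types.Colimits
import Mathlib.CategoryTheory.Limits.Types.Limits
import Mathlib.CategoryTheory.Limits.Yoneda
import Mathlib.CategoryTheory.Limits.Presheaf
import Mathlib.CategoryTheory.Limits.Opposites
import Mathlib.CategoryTheory.Limits.Preserves.Opposites
import Mathlib.CategoryTheory.Adjunction.Restrict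

/-!
Colimits, the canonical topology and inverse image functors for categories of sheaves of sets.
-/

set_option autoImplicit false
universe u v w w'

open CategoryTheory Limits Opposite

namespace Groth.Agent.Giraud45

open Topos46

variable {C : Type u} [SmallCategory C] {J : GrothendieckTopology C}

section zigzag

variable {I : Type u} [SmallCategory I] {D : I ⥤ Sheaf J (Type u)} {c : Cocone D} (hc : IsColimit c)

include hc in
/-- Two sections with the same image in a colimit are locally related by a zigzag. -/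
lemma exists_local_zigzag {V : C} {i j : I} (x : (D.obj i).obj.obj (op V))
    (y : (D.obj j).obj.obj (op V))
    (h : (c.ι.app i).hom.app (op V) x = (c.ι.app j).hom.app (op V) y) :
    ∃ S ∈ J V, ∀ ⦃W : C⦄ (g : W ⟶ V), S g → Relation.EqvGen
      (D ⋙ sheafToPresheaf J (Type u) ⋙ (evaluation Cᵒᵖ (Type u)).obj (op W)).ColimitTypeRel
      ⟨i, (D.obj i).obj.map g.op x⟩ ⟨j, (D.obj j).obj.map g.op y⟩ := by
  let E := colimit.cocone (D ⋙ sheafToPresheaf J (Type u))
  let c' := Sheaf.sheafifyCocone E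
  have hc' : ∀ (k : I) (z : (D.obj k).obj.obj (op V)), (c'.ι.app k).hom.app (op V) z =
      (hc.desc c').hom.app (op V) ((c.ι.app k).hom.app (op V) z) := fun k z =>
    (ConcreteCategory.congr_hom
      (congr_app ((sheafToPresheaf J _).congr_map (hc.fac c' k)) (op V)) z).symm
  have hxy : (c'.ι.app i).hom.app (op V) x = (c'.ι.app j).hom.app (op V) y := by rw [hc', hc', h]
  rw [Sheaf.sheafifyCocone_ι_app_val, Sheaf.sheafifyCocone_ι_app_val] at hxy
  refine ⟨_, Presheaf.equalizerSieve_mem J (toSheafify J E.pt) (X := op V)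
    ((E.ι.app i).app (op V) x) ((E.ι.app j).app (op V) y) hxy, fun W g hg => ?_⟩
  have hg' : (E.ι.app i).app (op W) ((D.obj i).obj.map g.op x) =
      (E.ι.app j).app (op W) ((D.obj j).obj.map g.op y) :=
    ((E.ι.app i).naturality_apply g.op x).trans
      (hg.trans ((E.ι.app j).naturality_apply g.op y).symm)
  let hW := isColimitOfPreserves ((evaluation Cᵒᵖ (Type u)).obj (op W))
    (colimit.isColimit (D ⋙ sheafToPresheaf J (Type u)))
  apply Types.colimit_eq
  have e1 := ConcreteCategory.congr_hom (hW.comp_coconePointUniqueUpToIso_hom (colimit.isColimit _) i)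
    ((D.obj i).obj.map g.op x)
  have e2 := ConcreteCategory.congr_hom (hW.comp_coconePointUniqueUpToIso_hom (colimit.isColimit _) j)
    ((D.obj j).obj.map g.op y)
  exact e1.symm.trans ((congrArg (hW.coconePointUniqueUpToIso (colimit.isColimit _)).hom hg').trans e2)

include hc in
/-- Two maps agreeing in a colimit: there is a small cover on which every invariant of the diagram
takes the same value on both. -/
lemma exists_cover_invariant {W : Sheaf J (Type u)} {i j : I} (a : W ⟶ D.obj i) (b : W ⟶ D.obj j)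
    (h : a ≫ c.ι.app i = b ≫ c.ι.app j) :
    ∃ (K : Type u) (V : K → C) (g : ∀ k, ToposFin.eps J (V k) ⟶ W), IsEpiFam g ∧
      ∀ (k : K) (α : Type w) (Φ : ∀ i, (ToposFin.eps J (V k) ⟶ D.obj i) → α),
        (∀ i i' (f : i ⟶ i') (t : ToposFin.eps J (V k) ⟶ D.obj i), Φ i' (t ≫ D.map f) = Φ i t) →
          Φ i (g k ≫ a) = Φ j (g k ≫ b) := by
  have hloc : ∀ p : Σ V : C, W.obj.obj (op V), ∃ S ∈ J p.1, ∀ ⦃V' : C⦄ (g : V' ⟶ p.1), S g →
      Relation.EqvGen
      (D ⋙ sheafToPresheaf J (Type u) ⋙ (evaluation Cᵒᵖ (Type u)).obj (op V')).ColimitTypeRel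
      ⟨i, (D.obj i).obj.map g.op (a.hom.app (op p.1) p.2)⟩
      ⟨j, (D.obj j).obj.map g.op (b.hom.app (op p.1) p.2)⟩ := fun p =>
    exists_local_zigzag hc _ _ (ConcreteCategory.congr_hom
      (congr_app ((sheafToPresheaf J _).congr_map h) (op p.1)) p.2)
  choose S hS hrel using hloc
  have hgen : IsEpiFam (fun p : Σ V : C, W.obj.obj (op V) => epsEquiv.symm p.2) := by
    intro Z u v huv
    ext ⟨V⟩ s
    have := congrArg epsEquiv (huv ⟨V, s⟩)
    simpa [epsEquiv_comp] using this
  refine ⟨Σ p : (Σ V : C, W.obj.obj (op V)), Σ V' : C, {g : V' ⟶ p.1 // S p g}, fun k => k.2.1,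
    fun k => epsMap k.2.2.1 ≫ epsEquiv.symm k.1.2, hgen.sigma (fun p => isEpiFam_sieve (hS p)), ?_⟩
  rintro ⟨p, V', g, hg⟩ α Φ hΦ
  let Ψ : (Σ i : I, (D.obj i).obj.obj (op V')) → α := fun z => Φ z.1 (epsEquiv.symm z.2)
  have key : ∀ z z', Relation.EqvGen
      (D ⋙ sheafToPresheaf J (Type u) ⋙ (evaluation Cᵒᵖ (Type u)).obj (op V')).ColimitTypeRel z z' →
      Ψ z = Ψ z' := by
    intro z z' hz
    induction hz with
    | rel z z' hzz =>
      obtain ⟨f, hf⟩ := hzz
      have : epsEquiv.symm z'.2 = (epsEquiv.symm z.2 : ToposFin.eps J V' ⟶ D.obj z.1) ≫ D.map f :=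
        epsEquiv.injective (by rw [epsEquiv_comp, Equiv.apply_symm_apply, Equiv.apply_symm_apply]; exact hf)
      show Φ z.1 _ = Φ z'.1 _
      rw [this, hΦ]
    | refl => rfl
    | symm _ _ _ ih => exact ih.symm
    | trans _ _ _ _ _ ih ih' => exact ih.trans ih'
  have hk := key _ _ (hrel p g hg)
  have e : ∀ {Z : Sheaf J (Type u)} (d : W ⟶ Z),
      (epsMap g ≫ epsEquiv.symm p.2) ≫ d = epsEquiv.symm (Z.obj.map g.op (d.hom.app (op p.1) p.2)) :=
    fun d => epsEquiv.injective (by
      rw [Equiv.apply_symm_apply, Category.assoc, epsEquiv_epsMap_comp, epsEquiv_comp,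
        Equiv.apply_symm_apply])
  rw [e, e]
  exact hk

end zigzag

/-- A jointly epimorphic sieve of the topos is covering for the canonical topology, and conversely. -/
lemma mem_canonical_iff {X : Sheaf J (Type u)} (S : Sieve X) :
    S ∈ Sheaf.canonicalTopology (Sheaf J (Type u)) X ↔
      IsEpiFam (fun p : Σ Y, {f : Y ⟶ X // S f} => p.2.1) := by
  constructor
  · intro hS Z a b hab
    exact ((Sheaf.isSheaf_yoneda_obj Z _ hS).isSeparatedFor).ext fun Y f hf => hab ⟨Y, f, hf⟩
  · intro hS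
    refine Sheaf.mem_finestTopology_of_forall_isSheafFor ?_
    rintro P ⟨Z, rfl⟩ Y f
    have hT : IsEpiFam (fun p : Σ Y', {g : Y' ⟶ Y // S.pullback f g} => p.2.1) :=
      (hS.pullback_fst f).of_fac fun p => ⟨⟨_, pullback.fst f p.2.1, by
        show S (pullback.fst f p.2.1 ≫ f)
        rw [pullback.condition]
        exact S.downward_closed p.2.2 _⟩, 𝟙 _, Category.id_comp _⟩
    intro x hx
    obtain ⟨d, hd⟩ := hT.exists_desc (fun p => x p.2.1 p.2.2) fun p q =>
      hx _ _ p.2.2 q.2.2 pullback.condition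
    exact ⟨d, fun Y' g hg => hd ⟨Y', g, hg⟩, fun d' hd' => hT d' d fun p =>
      (hd' p.2.1 p.2.2).trans (hd p).symm⟩

/-- The value on a colimit of a functor preserving limits. -/
lemma existsUnique_of_colimit {A : Type w'} [Category.{u} A] (G : Aᵒᵖ ⥤ Type w) {I : Type*}
    [Category I] {D : I ⥤ A} {c : Cocone D} (hc : IsColimit c) [PreservesLimit D.op G]
    (x : ∀ i, G.obj (op (D.obj i))) (hx : ∀ i i' (f : i ⟶ i'), G.map (D.map f).op (x i') = x i) :
    ∃! t : G.obj (op c.pt), ∀ i, G.map (c.ι.app i).op t = x i := by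
  let hl := isLimitOfPreserves G hc.op
  let s : (D.op ⋙ G).sections := ⟨fun i => x i.unop, fun {a b} f => hx _ _ f.unop⟩
  refine ⟨(Types.isLimitEquivSections hl).symm s, fun i =>
    Types.isLimitEquivSections_symm_apply hl s (op i), fun t ht => ?_⟩
  rw [Equiv.eq_symm_apply]
  exact Subtype.ext (funext fun i => ht i.unop)

section preserving

variable (G : (Sheaf J (Type u))ᵒᵖ ⥤ Type w) [PreservesLimitsOfSize.{u, u} G]
  {X : Sheaf J (Type u)} {K : Type u} {V : K → C} (g : ∀ k, ToposFin.eps J (V k) ⟶ X)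
  (hg : IsEpiFam g)

include hg in
/-- A functor preserving limits satisfies descent for small covers. -/
lemma existsUnique_of_cover (x : ∀ k, G.obj (op (ToposFin.eps J (V k))))
    (hx : ∀ (U : C) k k' (p : ToposFin.eps J U ⟶ ToposFin.eps J (V k))
      (p' : ToposFin.eps J U ⟶ ToposFin.eps J (V k')), p ≫ g k = p' ≫ g k' →
      G.map p.op (x k) = G.map p'.op (x k')) :
    ∃! t, ∀ k, G.map (g k).op t = x k := by
  let R := Σ U : C, Σ k : K, Σ k' : K,
    {z : (ToposFin.eps J U ⟶ ToposFin.eps J (V k)) × (ToposFin.eps J U ⟶ ToposFin.eps J (V k')) //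
      z.1 ≫ g k = z.2 ≫ g k'}
  let P := ∐ fun k => ToposFin.eps J (V k)
  let r₁ : (∐ fun r : R => ToposFin.eps J r.1) ⟶ P :=
    Sigma.desc fun r => r.2.2.2.1.1 ≫ Sigma.ι (fun k => ToposFin.eps J (V k)) r.2.1
  let r₂ : (∐ fun r : R => ToposFin.eps J r.1) ⟶ P :=
    Sigma.desc fun r => r.2.2.2.1.2 ≫ Sigma.ι (fun k => ToposFin.eps J (V k)) r.2.2.1
  have hw : r₁ ≫ Sigma.desc g = r₂ ≫ Sigma.desc g := Sigma.hom_ext _ _ fun r => by
    simpa [r₁, r₂] using r.2.2.2.2
  have hd : ∀ s : Cofork r₁ r₂, ∃ d : X ⟶ s.pt, Sigma.desc g ≫ d = s.π := by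
    intro s
    obtain ⟨d, hd⟩ := hg.exists_desc (fun k => Sigma.ι (fun k => ToposFin.eps J (V k)) k ≫ s.π)
      fun k k' => by
        ext ⟨U⟩ z
        let zz : ToposFin.eps J U ⟶ pullback (g k) (g k') := epsEquiv.symm z
        have h := congrArg (fun t => Sigma.ι (fun r : R => ToposFin.eps J r.1)
          ⟨U, k, k', (zz ≫ pullback.fst _ _, zz ≫ pullback.snd _ _),
            by simp only [Category.assoc, pullback.condition]⟩ ≫ t) s.condition
        simp only [r₁, r₂, Sigma.ι_desc_assoc, Category.assoc] at h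
        have h' := congrArg epsEquiv h
        rw [epsEquiv_comp, epsEquiv_comp] at h'
        simpa [zz] using h'
    exact ⟨d, Sigma.hom_ext _ _ fun k => by rw [Sigma.ι_desc_assoc, hd]⟩
  have hcol : IsColimit (Cofork.ofπ (Sigma.desc g) hw) :=
    Cofork.IsColimit.mk _ (fun s => (hd s).choose) (fun s => (hd s).choose_spec) fun s m hm =>
      hg _ _ fun k => by
        have h1 := congrArg (fun z => Sigma.ι (fun k => ToposFin.eps J (V k)) k ≫ z)
          (hm.trans (hd s).choose_spec.symm)
        simpa using h1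
  have : PreservesLimitsOfSize.{0, 0} G := preservesSmallestLimits_of_preservesLimits G
  obtain ⟨t₀, ht₀, hu₀⟩ := existsUnique_of_colimit G (coproductIsCoproduct fun k => ToposFin.eps J (V k))
    (fun k => x k.as) (fun ⟨i⟩ ⟨i'⟩ f => by
      obtain rfl : i = i' := f.1.1
      obtain rfl : f = 𝟙 _ := Subsingleton.elim _ _
      simp)
  have hr : G.map r₁.op t₀ = G.map r₂.op t₀ := by
    obtain ⟨s, -, hs⟩ := existsUnique_of_colimit G (coproductIsCoproduct fun r : R => ToposFin.eps J r.1)
      (fun r => G.map r.as.2.2.2.1.1.op (x r.as.2.1)) (fun ⟨i⟩ ⟨i'⟩ f => by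
        obtain rfl : i = i' := f.1.1
        obtain rfl : f = 𝟙 _ := Subsingleton.elim _ _
        simp)
    have e : ∀ (k : K) (U : C) (p : ToposFin.eps J U ⟶ ToposFin.eps J (V k)) (r : R)
        (hU : r.1 = U) (q : ToposFin.eps J r.1 ⟶ ToposFin.eps J (V k)),
        G.map (q ≫ Sigma.ι (fun k => ToposFin.eps J (V k)) k).op t₀ = G.map q.op (x k) := by
      intro k U p r hU q
      rw [op_comp, Functor.map_comp_apply]
      exact congrArg _ (ht₀ ⟨k⟩)
    refine (hs _ fun ⟨r⟩ => ?_).trans (hs _ fun ⟨r⟩ => ?_).symm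
    · refine (ConcreteCategory.congr_hom (G.map_comp _ _) t₀).symm.trans ?_
      refine (congrArg (fun z => G.map (Quiver.Hom.op z) t₀) (Sigma.ι_desc _ r)).trans ?_
      exact e _ _ r.2.2.2.1.1 r rfl _
    · refine (ConcreteCategory.congr_hom (G.map_comp _ _) t₀).symm.trans ?_
      refine (congrArg (fun z => G.map (Quiver.Hom.op z) t₀) (Sigma.ι_desc _ r)).trans ?_
      exact (e _ _ r.2.2.2.1.2 r rfl _).trans (hx _ _ _ _ _ r.2.2.2.2).symm
  obtain ⟨t, ht, hu⟩ := existsUnique_of_colimit G hcol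
    (fun i => match i with
      | WalkingParallelPair.zero => G.map r₁.op t₀
      | WalkingParallelPair.one => t₀)
    (fun i i' f => by
      cases f with
      | left => rfl
      | right => exact hr.symm
      | id => simp)
  refine ⟨t, fun k => ?_, fun t' ht' => hu t' fun i => ?_⟩
  · rw [← ht₀ ⟨k⟩]
    refine (congrArg (fun z => G.map (Quiver.Hom.op z) t) (Sigma.ι_desc g k).symm).trans ?_
    exact (ConcreteCategory.congr_hom (G.map_comp (Sigma.desc g).op (Sigma.ι (fun k => ToposFin.eps J (V k)) k).op) t).trans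
      (congrArg (fun z => G.map (Sigma.ι (fun k => ToposFin.eps J (V k)) k).op z) (ht WalkingParallelPair.one))
  · have h1 : G.map (Sigma.desc g).op t' = t₀ := hu₀ _ fun ⟨k⟩ => by
      refine (ConcreteCategory.congr_hom (G.map_comp _ _) t').symm.trans ?_
      exact (congrArg (fun z => G.map (Quiver.Hom.op z) t') (Sigma.ι_desc g k)).trans (ht' k)
    cases i with
    | one => exact h1
    | zero =>
      refine (congrArg (fun z => G.map (Quiver.Hom.op z) t') (Cofork.app_zero_eq_comp_π_left _)).trans ?_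
      exact (ConcreteCategory.congr_hom (G.map_comp (Sigma.desc g).op r₁.op) t').trans
        (congrArg (fun z => G.map r₁.op z) h1)

end preserving

lemma isSheaf_of_preservesLimits {E' : Type v} [Category.{w} E'] (F : (Sheaf J (Type u))ᵒᵖ ⥤ E')
    [PreservesLimitsOfSize.{u, u} F] :
    Presheaf.IsSheaf (Sheaf.canonicalTopology (Sheaf J (Type u))) F := by
  intro e X S hS x hx
  let G := F ⋙ coyoneda.obj (op e)
  have hS' := (mem_canonical_iff S).1 hS
  let K := Σ V : C, {a : ToposFin.eps J V ⟶ X // S a}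
  have gen : ∀ Y : Sheaf J (Type u),
      IsEpiFam (fun p : Σ V : C, Y.obj.obj (op V) => (epsEquiv.symm p.2 : ToposFin.eps J p.1 ⟶ Y)) := by
    intro Y Z u v huv
    ext ⟨V⟩ s
    have := congrArg epsEquiv (huv ⟨V, s⟩)
    simpa [epsEquiv_comp] using this
  have hg : IsEpiFam (fun k : K => k.2.1) :=
    (hS'.sigma (fun p => gen p.1)).of_fac fun q => ⟨⟨q.2.1, _, S.downward_closed q.1.2.2 _⟩, 𝟙 _,
      Category.id_comp _⟩
  obtain ⟨t, ht, hu⟩ := existsUnique_of_cover G (fun k : K => k.2.1) hg (fun k => x k.2.1 k.2.2)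
    fun U k k' p p' h => hx p p' k.2.2 k'.2.2 h
  refine ⟨t, fun Y f hf => ?_, fun t' ht' => hu t' fun k => ht' k.2.1 k.2.2⟩
  obtain ⟨s, -, hs⟩ := existsUnique_of_cover G
    (fun p : Σ V : C, Y.obj.obj (op V) => (epsEquiv.symm p.2 : ToposFin.eps J p.1 ⟶ Y)) (gen Y)
    (fun p => G.map (epsEquiv.symm p.2 : ToposFin.eps J p.1 ⟶ Y).op (x f hf))
    fun U k k' p p' h => by
      rw [← Functor.map_comp_apply, ← Functor.map_comp_apply, ← op_comp, ← op_comp, h]
  refine (hs _ fun p => ?_).trans (hs _ fun _ => rfl).symm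
  refine (ConcreteCategory.congr_hom (G.map_comp f.op (epsEquiv.symm p.2 : ToposFin.eps J p.1 ⟶ Y).op) t).symm.trans ?_
  refine (ht ⟨p.1, _, S.downward_closed hf (epsEquiv.symm p.2)⟩).trans ?_
  simpa [G] using hx (𝟙 _) (epsEquiv.symm p.2) (S.downward_closed hf (epsEquiv.symm p.2)) hf (by simp)

lemma isEpiFam_cocone {I : Type u} [SmallCategory I] {D : I ⥤ Sheaf J (Type u)} {c : Cocone D}
    (hc : IsColimit c) : IsEpiFam (fun i => c.ι.app i) :=
  fun _ _ _ h => hc.hom_ext h

lemma preservesLimits_of_isSheaf {E' : Type v} [Category.{w} E'] (F : (Sheaf J (Type u))ᵒᵖ ⥤ E')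
    (hF : Presheaf.IsSheaf (Sheaf.canonicalTopology (Sheaf J (Type u))) F) :
    PreservesLimitsOfSize.{u, u} F := by
  refine ⟨fun {I} _ => ⟨fun {K} => ⟨fun {cn} hcn => ?_⟩⟩⟩
  let c := coconeLeftOpOfCone cn
  have hc : IsColimit c := isColimitCoconeLeftOpOfCone K hcn
  let S : Sieve cn.pt.unop :=
    Sieve.ofArrows (fun i : I => (K.obj i).unop) (fun i => (cn.π.app i).unop)
  have hS : S ∈ Sheaf.canonicalTopology (Sheaf J (Type u)) cn.pt.unop :=
    (mem_canonical_iff S).2 fun Z a b hab => hc.hom_ext fun i =>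
      hab ⟨_, (cn.π.app i.unop).unop, Sieve.ofArrows_mk _ _ i.unop⟩
  have key : ∀ s : Cone (K ⋙ F), ∃! t : s.pt ⟶ F.obj cn.pt, ∀ i, t ≫ F.map (cn.π.app i) = s.π.app i := by
    intro s
    let G := F ⋙ coyoneda.obj (op s.pt)
    have hsf := hF s.pt S hS
    rw [← Presieve.isSheafFor_iff_generate, Presieve.isSheafFor_arrows_iff] at hsf
    refine hsf (fun i => s.π.app i) fun i j W a b hab => ?_
    obtain ⟨L, V, g, hg, hinv⟩ := exists_cover_invariant hc (i := op i) (j := op j) a b hab
    let T : Sieve W := Sieve.ofArrows (fun l => ToposFin.eps J (V l)) g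
    have hT : T ∈ Sheaf.canonicalTopology (Sheaf J (Type u)) W :=
      (mem_canonical_iff T).2 fun Z p q hpq => hg p q fun l => hpq ⟨_, g l, Sieve.ofArrows_mk _ _ l⟩
    refine (hF s.pt T hT).isSeparatedFor.ext ?_
    rintro Y f ⟨_, f', _, ⟨l⟩, rfl⟩
    have h := hinv l (s.pt ⟶ F.obj (op (ToposFin.eps J (V l))))
      (fun i t => G.map t.op (s.π.app i.unop)) fun i i' φ t => by
        show s.π.app i'.unop ≫ F.map (t ≫ K.leftOp.map φ).op = s.π.app i.unop ≫ F.map t.op
        rw [← s.w φ.unop, op_comp, F.map_comp, Category.assoc]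
        rfl
    simp only [op_comp, Functor.map_comp_apply] at h ⊢
    exact congrArg _ h
  exact ⟨{ lift := fun s => (key s).choose
           fac := fun s i => (key s).choose_spec.1 i
           uniq := fun s m hm => (key s).choose_spec.2 m hm }⟩

section inverseImage

variable {D : Type u} [SmallCategory D] {K : GrothendieckTopology D}
  (f : Sheaf J (Type u) ⥤ Sheaf K (Type u))

lemma preservesColimits_of_lex_epiFamilies [PreservesFiniteLimits f]
    (hf : SGA4.PreservesEpiFamilies.{u + 1, u + 1, u} f) : PreservesColimitsOfSize.{u, u} f := by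
  refine ⟨fun {I} _ => ⟨fun {Dg} => ⟨fun {c} hc => ?_⟩⟩⟩
  have hepi : IsEpiFam (fun i => f.map (c.ι.app i)) :=
    hf I c.pt (fun i => Dg.obj i) (fun i => c.ι.app i) fun Z a b h => hc.hom_ext h
  have key : ∀ s : Cocone (Dg ⋙ f), ∃ d : f.obj c.pt ⟶ s.pt, ∀ i, f.map (c.ι.app i) ≫ d = s.ι.app i := by
    intro s
    refine hepi.exists_desc (fun i => s.ι.app i) fun i j => ?_
    have hp := (IsPullback.of_hasPullback (c.ι.app i) (c.ι.app j)).map f
    obtain ⟨L, V, g, hg, hinv⟩ := exists_cover_invariant hc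
      (pullback.fst (c.ι.app i) (c.ι.app j)) (pullback.snd (c.ι.app i) (c.ι.app j)) pullback.condition
    have hfg : IsEpiFam (fun l => f.map (g l)) := hf L _ _ g fun Z a b h => hg a b h
    have hkey : f.map (pullback.fst (c.ι.app i) (c.ι.app j)) ≫ s.ι.app i =
        f.map (pullback.snd (c.ι.app i) (c.ι.app j)) ≫ s.ι.app j := hfg _ _ fun l => by
      have h := hinv l (f.obj (ToposFin.eps J (V l)) ⟶ s.pt) (fun i t => f.map t ≫ s.ι.app i)
        fun i i' φ t => by
          show f.map (t ≫ Dg.map φ) ≫ s.ι.app i' = f.map t ≫ s.ι.app i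
          rw [f.map_comp, Category.assoc]
          exact congrArg _ (s.w φ)
      simpa only [f.map_comp, Category.assoc] using h
    rw [← hp.isoPullback_inv_fst, ← hp.isoPullback_inv_snd, Category.assoc, Category.assoc, hkey]
  exact ⟨{ desc := fun s => (key s).choose
           fac := fun s i => (key s).choose_spec i
           uniq := fun s m hm => hepi _ _ fun i => (hm i).trans ((key s).choose_spec i).symm }⟩

lemma isLeftAdjoint_of_preservesColimits [PreservesColimitsOfSize.{u, u} f] : f.IsLeftAdjoint := by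
  let L' := presheafToSheaf J (Type u) ⋙ f
  have : L'.IsLeftAdjoint := Presheaf.isLeftAdjoint_of_preservesColimits.{u} L'
  let adj' := Adjunction.ofIsLeftAdjoint L'
  have hR : ∀ Y, Presheaf.IsSheaf J (L'.rightAdjoint.obj Y) := by
    intro Y
    rw [isSheaf_iff_isSheaf_of_type]
    intro X S hS
    rw [Presieve.isSheafFor_iff_yonedaSheafCondition]
    refine (Function.bijective_iff_existsUnique _).1 ?_
    have hW : J.W S.functorInclusion := by
      refine (J.W_iff_isLocallyBijective _).2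
        ⟨Presheaf.isLocallyInjective_of_injective J _ fun W x y e => Subtype.ext e, ⟨fun {W} g => ?_⟩⟩
      refine J.superset_covering ?_ (J.pullback_stable (g : W ⟶ X) hS)
      intro V h hh
      exact ⟨(⟨h ≫ (g : W ⟶ X), hh⟩ : S.functor.obj (op V)), rfl⟩
    have : IsIso ((presheafToSheaf J (Type u)).map S.functorInclusion) :=
      (SGA45.isIso_map_iff_W J _).2 hW
    have : IsIso (L'.map S.functorInclusion) := inferInstanceAs (IsIso (f.map _))
    have e : (fun t : yoneda.obj X ⟶ L'.rightAdjoint.obj Y => S.functorInclusion ≫ t) =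
        fun t => adj'.homEquiv _ Y (L'.map S.functorInclusion ≫ (adj'.homEquiv _ Y).symm t) := by
      funext t
      rw [Adjunction.homEquiv_naturality_left, Equiv.apply_symm_apply]
    show Function.Bijective (fun t : yoneda.obj X ⟶ L'.rightAdjoint.obj Y => S.functorInclusion ≫ t)
    rw [e]
    exact (adj'.homEquiv _ Y).bijective.comp
      ((Iso.homFromEquiv (asIso (L'.map S.functorInclusion))).symm.bijective.comp
        (adj'.homEquiv _ Y).symm.bijective)
  let R : Sheaf K (Type u) ⥤ Sheaf J (Type u) :=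
    { obj := fun Y => ⟨L'.rightAdjoint.obj Y, hR Y⟩
      map := fun φ => ⟨L'.rightAdjoint.map φ⟩ }
  exact ⟨R, ⟨adj'.restrictFullyFaithful (fullyFaithfulSheafToPresheaf J (Type u))
    (Functor.FullyFaithful.id _)
    ((Functor.associator _ _ _).symm ≪≫
      Functor.isoWhiskerRight (asIso (sheafificationAdjunction J (Type u)).counit) f ≪≫
      f.leftUnitor ≪≫ f.rightUnitor.symm)
    (NatIso.ofComponents fun Y => Iso.refl _)⟩⟩

theorem preservesColimits_iff_isContinuous :
    PreservesColimitsOfSize.{u, u} f ↔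
      f.IsContinuous.{u} (Sheaf.canonicalTopology (Sheaf J (Type u)))
        (Sheaf.canonicalTopology (Sheaf K (Type u))) := by
  constructor
  · intro _
    refine ⟨fun G => ?_⟩
    have := preservesLimits_of_isSheaf G.obj G.property
    have : PreservesLimitsOfSize.{u, u} f.op := preservesLimitsOfSize_op f
    rw [← isSheaf_iff_isSheaf_of_type]
    exact isSheaf_of_preservesLimits _
  · intro hcont
    refine ⟨fun {I} _ => ⟨fun {Dg} => ⟨fun {c} hc => ⟨?_⟩⟩⟩⟩
    refine (Cocone.isColimitYonedaEquiv _).symm fun Z => ?_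
    let G : Sheaf (Sheaf.canonicalTopology (Sheaf K (Type u))) (Type (u + 1)) :=
      ⟨yoneda.obj Z ⋙ uliftFunctor.{u + 1}, by
        have := preservesLimits_of_isSheaf (yoneda.obj Z)
          ((isSheaf_iff_isSheaf_of_type _ _).2 (Sheaf.isSheaf_yoneda_obj Z))
        exact isSheaf_of_preservesLimits _⟩
    have hG : Presheaf.IsSheaf (Sheaf.canonicalTopology (Sheaf J (Type u))) (f.op ⋙ G.obj) :=
      (isSheaf_iff_isSheaf_of_type _ _).2 (Functor.IsContinuous.op_comp_isSheaf_of_types G)
    have := preservesLimits_of_isSheaf (f.op ⋙ G.obj) hG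
    exact isLimitOfReflects uliftFunctor.{u + 1} (isLimitOfPreserves (f.op ⋙ G.obj) hc.op)

end inverseImage

end Groth.Agent.Giraud45
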