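import Groth.Prelude.Def_SGA4a
import Mathlib.CategoryTheory.Limits.VanKampen
import Mathlib.CategoryTheory.Limits.Shapes.DisjointCoproduct
import Mathlib.CategoryTheory.Generator.Basic

/-!
Strongly epimorphic families in a category satisfying Giraud's axioms
(finite limits, disjoint universal coproducts, effective universal equivalence relations).
-/

set_option autoImplicit false
universe u v w w'

open CategoryTheory Limits

namespace Groth.Agent.Giraud45

variable {E : Type v} [Category.{u} E]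

/-- A family factors through no proper subobject. -/
def Cov {Z : E} {ι : Type w} {G : ι → E} (g : ∀ i, G i ⟶ Z) : Prop :=
  ∀ ⦃M : E⦄ (m : M ⟶ Z) [Mono m], (∀ i, ∃ h : G i ⟶ M, h ≫ m = g i) → IsIso m

lemma Cov.exists_lift {Z : E} {ι : Type w} {G : ι → E} {g : ∀ i, G i ⟶ Z} (hg : Cov g)
    [HasPullbacks E] {T : E} {M : E} {m : M ⟶ T} [Mono m] (a : Z ⟶ T)
    (h : ∀ i, ∃ h : G i ⟶ M, h ≫ m = g i ≫ a) : ∃ t : Z ⟶ M, t ≫ m = a := by
  have : IsIso (pullback.snd m a) := by
    refine hg _ fun i => ?_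
    obtain ⟨k, hk⟩ := h i
    exact ⟨pullback.lift k (g i) hk, pullback.lift_snd _ _ _⟩
  exact ⟨inv (pullback.snd m a) ≫ pullback.fst m a, by simp [pullback.condition]⟩

lemma Cov.hom_ext {Z : E} {ι : Type w} {G : ι → E} {g : ∀ i, G i ⟶ Z} (hg : Cov g)
    [HasEqualizers E] {T : E} {a b : Z ⟶ T} (h : ∀ i, g i ≫ a = g i ≫ b) : a = b := by
  have : IsIso (equalizer.ι a b) :=
    hg _ fun i => ⟨equalizer.lift (g i) (h i), equalizer.lift_ι _ _⟩
  exact (cancel_epi (equalizer.ι a b)).1 (equalizer.condition a b)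

lemma Cov.of_fac {Z : E} {ι : Type w} {G : ι → E} {g : ∀ i, G i ⟶ Z} (hg : Cov g)
    {κ : Type w'} {H : κ → E} {k : ∀ j, H j ⟶ Z}
    (h : ∀ i, ∃ (j : κ) (t : G i ⟶ H j), t ≫ k j = g i) : Cov k := by
  intro M m _ hm
  refine hg m fun i => ?_
  obtain ⟨j, t, ht⟩ := h i
  obtain ⟨s, hs⟩ := hm j
  exact ⟨t ≫ s, by rw [Category.assoc, hs, ht]⟩

lemma Cov.comp {Z : E} {ι : Type w} {G : ι → E} {g : ∀ i, G i ⟶ Z} (hg : Cov g) [HasPullbacks E]
    {κ : ι → Type w'} {H : ∀ i, κ i → E} {k : ∀ i j, H i j ⟶ G i} (hk : ∀ i, Cov (k i)) :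
    Cov (fun p : Σ i, κ i => k p.1 p.2 ≫ g p.1) := by
  intro M m _ hm
  refine hg m fun i => ?_
  exact (hk i).exists_lift (g i) fun j => hm ⟨i, j⟩

lemma Cov.single_of_isIso {Z Z' : E} (f : Z' ⟶ Z) [IsIso f] :
    Cov (fun _ : PUnit.{w + 1} => f) := by
  intro M m _ hm
  obtain ⟨h, hh⟩ := hm ⟨⟩
  have : IsSplitEpi m := IsSplitEpi.mk' ⟨inv f ≫ h, by rw [Category.assoc, hh, IsIso.inv_hom_id]⟩
  exact isIso_of_mono_of_isSplitEpi m

lemma isIso_of_effectiveEpi_fac {A M Z : E} (π : A ⟶ Z) [EffectiveEpi π] (m : M ⟶ Z) [Mono m]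
    (h : A ⟶ M) (hh : h ≫ m = π) : IsIso m := by
  let s := EffectiveEpi.desc π h fun g₁ g₂ e => by
    rw [← cancel_mono m, Category.assoc, Category.assoc, hh, e]
  have hs : π ≫ s = h := EffectiveEpi.fac _ _ _
  have : IsSplitEpi m := IsSplitEpi.mk' ⟨s, by
    rw [← cancel_epi π, ← Category.assoc, hs, hh, Category.comp_id]⟩
  exact isIso_of_mono_of_isSplitEpi m

variable [HasFiniteLimits E]

lemma Cov.of_cofan {ι : Type w} {X : ι → E} (c : Cofan X) (hc : IsColimit c) : Cov c.inj := by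
  intro M m _ hm
  choose h hh using hm
  have : IsSplitEpi m := IsSplitEpi.mk' ⟨Cofan.IsColimit.desc hc h,
    Cofan.IsColimit.hom_ext hc _ _ fun i => by rw [← Category.assoc, Cofan.IsColimit.fac, hh,
      Category.comp_id]⟩
  exact isIso_of_mono_of_isSplitEpi m

variable (E) in
/-- Effective universal equivalence relations. -/
abbrev EffRel : Prop :=
  ∀ (R A : E) (p₁ p₂ : R ⟶ A), SGA4.IsEquivRel p₁ p₂ → SGA4.IsEffectiveUniversalEquivRel p₁ p₂

/-- Image factorization. -/
lemma exists_image (hc : EffRel E) {A Z : E} (p : A ⟶ Z) :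
    ∃ (B : E) (π : A ⟶ B) (m : B ⟶ Z), Mono m ∧ π ≫ m = p ∧
      ∀ (B' : E) (g : B' ⟶ B), EffectiveEpi (pullback.snd π g) := by
  have hR : SGA4.IsEquivRel (pullback.fst p p) (pullback.snd p p) := by
    intro T
    refine ⟨fun f g e => pullback.hom_ext (congrArg Prod.fst e) (congrArg Prod.snd e),
      ⟨fun a => ⟨pullback.lift a a rfl, pullback.lift_fst _ _ _, pullback.lift_snd _ _ _⟩, ?_, ?_⟩⟩
    · rintro a b ⟨f, rfl, rfl⟩
      exact ⟨pullback.lift _ _ (show (f ≫ pullback.snd p p) ≫ p = (f ≫ pullback.fst p p) ≫ p by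
        simp [pullback.condition]), pullback.lift_fst _ _ _, pullback.lift_snd _ _ _⟩
    · rintro a b c ⟨f, rfl, h⟩ ⟨g, h', rfl⟩
      exact ⟨pullback.lift _ _ (show (f ≫ pullback.fst p p) ≫ p = (g ≫ pullback.snd p p) ≫ p by
        rw [Category.assoc, pullback.condition, ← Category.assoc, h, ← h']
        simp [pullback.condition]), pullback.lift_fst _ _ _, pullback.lift_snd _ _ _⟩
  obtain ⟨B, π, hpb, hpo, hu⟩ := hc _ _ _ _ hR
  let m := hpo.desc p p pullback.condition
  have hm : π ≫ m = p := hpo.inl_desc _ _ _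
  refine ⟨B, π, m, ⟨fun {T} a b e => ?_⟩, hm, hu⟩
  let q₁ := pullback.snd π a
  let q₂ := pullback.snd π (q₁ ≫ b)
  have := hu _ a
  have := hu _ (q₁ ≫ b)
  rw [← cancel_epi q₁, ← cancel_epi q₂]
  have e1 : (q₂ ≫ pullback.fst π a) ≫ π = q₂ ≫ q₁ ≫ a := by
    rw [Category.assoc, pullback.condition]
  have e2 : pullback.fst π (q₁ ≫ b) ≫ π = q₂ ≫ q₁ ≫ b := pullback.condition
  rw [← e1, ← e2]
  have e3 : (q₂ ≫ pullback.fst π a) ≫ p = pullback.fst π (q₁ ≫ b) ≫ p := by
    rw [← hm, ← Category.assoc, e1, ← Category.assoc _ π, e2]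
    simp [e]
  have h := congrArg (fun t => pullback.lift _ _ e3 ≫ t) hpb.w
  simp only [← Category.assoc, pullback.lift_fst, pullback.lift_snd] at h
  exact h

variable (hb : SGA4.HasDisjointUniversalCoproducts.{v, u} E) (hc : EffRel E)

include hb hc in
lemma Cov.pullback {Z : E} {ι : Type u} {G : ι → E} {g : ∀ i, G i ⟶ Z} (hg : Cov g) {Y : E}
    (f : Y ⟶ Z) : Cov (fun i => pullback.fst f (g i)) := by
  intro M n _ hn
  choose h hh using hn
  obtain ⟨c, hcol, -, hu⟩ := hb ι G
  obtain ⟨B, π, m, _, hfac, heff⟩ := exists_image hc (Cofan.IsColimit.desc hcol g)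
  have : IsIso m := hg m fun i => ⟨c.inj i ≫ π, by
    rw [Category.assoc, hfac, Cofan.IsColimit.fac]⟩
  let p := Cofan.IsColimit.desc hcol g
  let d : Cofan (fun i => Limits.pullback f (g i)) := Cofan.mk (Limits.pullback f p) fun i =>
    pullback.lift (pullback.fst f (g i)) (pullback.snd f (g i) ≫ c.inj i)
      (by rw [Category.assoc, Cofan.IsColimit.fac, pullback.condition])
  obtain ⟨hd⟩ := hu.nonempty_isColimit_of_isPullback_left g p f _ _
    (fun i => IsPullback.of_hasPullback f (g i)) (IsPullback.of_hasPullback f p) d (Iso.refl _)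
    (fun i => Cofan.IsColimit.fac _ _ _) (fun i => (congrArg (d.inj i ≫ ·) (Category.id_comp _)).trans (pullback.lift_fst _ _ _)) (fun i => (congrArg (d.inj i ≫ ·) (Category.id_comp _)).trans (pullback.lift_snd _ _ _))
  let k := Cofan.IsColimit.desc hd h
  have hk : k ≫ n = pullback.fst f p := Cofan.IsColimit.hom_ext hd _ _ fun i => by
    rw [← Category.assoc, Cofan.IsColimit.fac, hh]
    exact (pullback.lift_fst _ _ _).symm
  have := heff _ (f ≫ inv m)
  let t : Limits.pullback π (f ≫ inv m) ⟶ Limits.pullback f p :=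
    pullback.lift (pullback.snd _ _) (pullback.fst _ _) (by
      have hcond := congrArg (fun x => x ≫ m) (pullback.condition (f := π) (g := f ≫ inv m))
      simp only [Category.assoc, IsIso.inv_hom_id, Category.comp_id] at hcond
      rw [← hcond, hfac])
  exact isIso_of_effectiveEpi_fac (pullback.snd π (f ≫ inv m)) n (t ≫ k)
    (by rw [Category.assoc, hk, pullback.lift_fst])

/-- Pullback of a covering family along an effective universal quotient map. -/
lemma Cov.single_pullback {A B : E} {π : A ⟶ B}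
    (heff : ∀ (B' : E) (g : B' ⟶ B), EffectiveEpi (pullback.snd π g)) {Y : E} (f : Y ⟶ B) :
    Cov (fun _ : PUnit.{u + 1} => pullback.snd π f) := by
  intro M m _ hm
  obtain ⟨h, hh⟩ := hm ⟨⟩
  have := heff _ f
  exact isIso_of_effectiveEpi_fac _ m h hh

include hb in
lemma mono_inj {ι : Type u} {X : ι → E} (c : Cofan X) (hcol : IsColimit c) (i : ι) :
    Mono (c.inj i) := by
  obtain ⟨-, -, hd, -⟩ := hb ι X
  exact CoproductDisjoint.mono_inj hcol i

include hb in
/-- An object mapping to an initial object is covered by the empty family. -/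
lemma cov_empty_of_hom_initial {P W : E} (hP : IsInitial P) (a : W ⟶ P) :
    Cov (fun i : PEmpty.{u + 1} => (i.elim : PEmpty.elim i ⟶ W)) := by
  intro M m _ _
  obtain ⟨c, hcol, -, hu⟩ := hb PEmpty.{u + 1} PEmpty.elim
  let e : c.pt ≅ P :=
    { hom := Cofan.IsColimit.desc hcol fun i => i.elim
      inv := hP.to _
      hom_inv_id := Cofan.IsColimit.hom_ext hcol _ _ fun i => i.elim
      inv_hom_id := hP.hom_ext _ _ }
  have key : ∀ {Y : E} (f : Y ⟶ c.pt),
      Nonempty (IsColimit (Cofan.mk (f := fun i : PEmpty.{u + 1} => (i.elim : E)) Y fun i => i.elim)) :=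
    fun {Y} f => hu.nonempty_isColimit_of_isPullback_left (fun i => i.elim) (𝟙 c.pt) f
      (fun i => i.elim) (fun i => i.elim) (fun i => i.elim) (IsPullback.of_horiz_isIso (fst := 𝟙 Y) (snd := f) (g := 𝟙 c.pt) (f := f) ⟨by simp⟩)
      _ (Iso.refl Y) (fun i => i.elim) (fun i => i.elim) (fun i => i.elim)
  obtain ⟨hW⟩ := key (a ≫ e.inv)
  have : IsSplitEpi m := IsSplitEpi.mk' ⟨Cofan.IsColimit.desc hW fun i => i.elim,
    Cofan.IsColimit.hom_ext hW _ _ fun i => i.elim⟩
  exact isIso_of_mono_of_isSplitEpi m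

include hb in
/-- Two distinct coprojections only agree on objects covered by the empty family. -/
lemma cov_empty_of_inj_eq {ι : Type u} {X : ι → E} (c : Cofan X) (hcol : IsColimit c) {i j : ι}
    (hij : i ≠ j) {W : E} (a : W ⟶ X i) (b : W ⟶ X j) (h : a ≫ c.inj i = b ≫ c.inj j) :
    Cov (fun i : PEmpty.{u + 1} => (i.elim : PEmpty.elim i ⟶ W)) := by
  obtain ⟨-, -, hd, -⟩ := hb ι X
  obtain ⟨hI⟩ := CoproductDisjoint.nonempty_isInitial_of_ne hcol hij _
    (pullback.isLimit (c.inj i) (c.inj j))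
  exact cov_empty_of_hom_initial hb hI (pullback.lift a b h)

include hb hc in
/-- A map into a coproduct locally factors through the coprojections. -/
lemma cov_pullback_inj {ι : Type u} {X : ι → E} (c : Cofan X) (hcol : IsColimit c) {W : E}
    (t : W ⟶ c.pt) : Cov (fun i => pullback.fst t (c.inj i)) :=
  Cov.pullback hb hc (Cov.of_cofan c hcol) t

end Groth.Agent.Giraud45
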