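import Groth.Prelude.Def_SGA4a
import Groth.Agent.Topos46.Coprod
import Groth.Agent.Topos46.Eps
import Mathlib.CategoryTheory.Limits.Shapes.DisjointCoproduct
import Mathlib.CategoryTheory.Sites.LocallyInjective

/-!
Giraud's axioms hold in a category of sheaves of sets.
-/

set_option autoImplicit false
universe u v

open CategoryTheory Limits Opposite

namespace Groth.Agent.Giraud45

/-- A morphism which is the coequalizer of its kernel pair is an effective epimorphism. -/
lemma effectiveEpi_of_isPushout {E : Type*} [Category E] {A B : E} (f : A ⟶ B) [HasPullback f f]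
    (h : IsPushout (pullback.fst f f) (pullback.snd f f) f f) : EffectiveEpi f := by
  refine ⟨⟨{ desc := fun e he => h.desc e e (he _ _ pullback.condition)
             fac := fun e he => h.inl_desc _ _ _
             uniq := fun e he m hm => h.hom_ext (hm.trans (h.inl_desc _ _ _).symm)
               (hm.trans (h.inr_desc _ _ _).symm) }⟩⟩

/-- An effective epimorphism is the coequalizer of its kernel pair. -/
lemma isPushout_of_effectiveEpi {E : Type*} [Category E] {A B : E} (f : A ⟶ B) [EffectiveEpi f]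
    [HasPullback f f] : IsPushout (pullback.fst f f) (pullback.snd f f) f f := by
  have hd : ∀ s : PushoutCocone (pullback.fst f f) (pullback.snd f f), s.inl = s.inr := fun s => by
    have := congrArg (fun t => pullback.lift (𝟙 A) (𝟙 A) rfl ≫ t) s.condition
    simpa [pullback.lift_fst_assoc, pullback.lift_snd_assoc] using this
  have hc : ∀ (s : PushoutCocone (pullback.fst f f) (pullback.snd f f)) {T : E} (a b : T ⟶ A),
      a ≫ f = b ≫ f → a ≫ s.inl = b ≫ s.inl := fun s T a b e => by
    have := congrArg (fun t => pullback.lift a b e ≫ t) s.condition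
    simpa [hd, pullback.lift_fst_assoc, pullback.lift_snd_assoc] using this
  exact IsPushout.of_isColimit' ⟨pullback.condition⟩ (PushoutCocone.IsColimit.mk _
    (fun s => EffectiveEpi.desc f s.inl (fun a b e => hc s a b e))
    (fun s => EffectiveEpi.fac _ _ _) (fun s => (EffectiveEpi.fac _ _ _).trans (hd s))
    (fun s m h1 _ => EffectiveEpi.uniq _ _ _ _ h1))

variable {C : Type u} [SmallCategory C] {J : GrothendieckTopology C}

open Topos46

/-- Epimorphisms of sheaves of sets are effective. -/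
lemma effectiveEpi_of_epi {X Y : Sheaf J (Type u)} (f : X ⟶ Y) [Epi f] : EffectiveEpi f := by
  have key : ∀ {W : Sheaf J (Type u)} (e : X ⟶ W),
      (∀ {Z : Sheaf J (Type u)} (g₁ g₂ : Z ⟶ X), g₁ ≫ f = g₂ ≫ f → g₁ ≫ e = g₂ ≫ e) →
      ∃ d, f ≫ d = e := fun {W} e he => by
    obtain ⟨d, hd⟩ := (isEpiFam_of_epi f).exists_desc (fun _ => e)
      (fun _ _ => he _ _ pullback.condition)
    exact ⟨d, hd ()⟩
  exact ⟨⟨{ desc := fun e he => (key e he).choose
            fac := fun e he => (key e he).choose_spec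
            uniq := fun e he m hm => (cancel_epi f).1 (hm.trans (key e he).choose_spec.symm) }⟩⟩

lemma epi_pullback_snd {X Y Z : Sheaf J (Type u)} (f : X ⟶ Y) [Epi f] (g : Z ⟶ Y) :
    Epi (pullback.snd f g) :=
  ((isEpiFam_of_epi f).pullback_snd g).epi

lemma isUniversalColimit_cofan {ι : Type u} {F : ι → Sheaf J (Type u)} {c : Cofan F}
    (hc : IsColimit c) : IsUniversalColimit c := by
  intro F' c' α f hα _ sq
  have hc₀ : IsEpiFam (F := fun j : Discrete ι => F j.as) (fun j => c.inj j.as) := fun Z a b h =>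
    isEpiFam_inj hc a b fun i => h ⟨i⟩
  have sq' : ∀ j : Discrete ι, IsPullback (c'.ι.app j) (α.app j) f (c.inj j.as) := fun ⟨i⟩ => sq ⟨i⟩
  have hepi : IsEpiFam (F := F'.obj) (fun j => c'.ι.app j) := hc₀.of_isPullback f _ _ sq'
  have key : ∀ s : Cocone F', ∃ d : c'.pt ⟶ s.pt, ∀ j, c'.ι.app j ≫ d = s.ι.app j := fun s => by
    refine hepi.exists_desc (fun j => s.ι.app j) fun i j => ?_
    by_cases hij : i = j
    · subst hij
      have : Mono (c.inj i.as) := mono_cofan_inj hc _
      have : Mono (c'.ι.app i) := MorphismProperty.of_isPullback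
        (P := MorphismProperty.monomorphisms _) (sq' i).flip ‹_›
      rw [(cancel_mono (c'.ι.app i)).1 pullback.condition]
    · have hij' : i.as ≠ j.as := fun h => hij (Discrete.ext h)
      refine isVoid_of_comm_inj hc hij' (pullback.fst _ _ ≫ α.app i) (pullback.snd _ _ ≫ α.app j) ?_
        _ _
      rw [Category.assoc, Category.assoc, ← (sq' i).w, ← (sq' j).w, pullback.condition_assoc]
  exact ⟨{ desc := fun s => (key s).choose
           fac := fun s j => (key s).choose_spec j
           uniq := fun s m hm => hepi m _ fun j => (hm j).trans ((key s).choose_spec j).symm }⟩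

theorem hasDisjointUniversalCoproducts_sheaf :
    SGA4.HasDisjointUniversalCoproducts.{u + 1, u} (Sheaf J (Type u)) := by
  intro ι X
  let c : Cofan X := colimit.cocone (Discrete.functor X)
  have hc : IsColimit c := colimit.isColimit _
  have : ∀ i, Mono (c.inj i) := mono_cofan_inj hc
  refine ⟨c, hc, CoproductDisjoint.of_cofan hc
    (fun {i j} _ => pullback.cone (c.inj i) (c.inj j))
    (fun {i j} _ => pullback.isLimit _ _) (fun {i j} hij => ?_), isUniversalColimit_cofan hc⟩
  exact IsInitial.ofIso initialIsInitial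
    (isVoid_iff_iso_initial.1 (isVoid_of_comm_inj hc hij _ _ pullback.condition)).some.symm

section EquivRel

variable {R A : Sheaf J (Type u)} (p₁ p₂ : R ⟶ A) (hR : SGA4.IsEquivRel p₁ p₂)

/-- The relation on sections. -/
def SecRel (W : Cᵒᵖ) (x y : A.obj.obj W) : Prop :=
  ∃ r, p₁.hom.app W r = x ∧ p₂.hom.app W r = y

include hR in
lemma secRel_injective (W : Cᵒᵖ) (r r' : R.obj.obj W) (h₁ : p₁.hom.app W r = p₁.hom.app W r')
    (h₂ : p₂.hom.app W r = p₂.hom.app W r') : r = r' := by
  obtain ⟨V⟩ := W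
  refine epsEquiv.symm.injective ((hR (ToposFin.eps J V)).1 (Prod.ext ?_ ?_))
  · exact epsEquiv.injective (by rw [epsEquiv_comp, epsEquiv_comp, Equiv.apply_symm_apply,
      Equiv.apply_symm_apply, h₁])
  · exact epsEquiv.injective (by rw [epsEquiv_comp, epsEquiv_comp, Equiv.apply_symm_apply,
      Equiv.apply_symm_apply, h₂])

include hR in
lemma secRel_equivalence (W : Cᵒᵖ) : Equivalence (SecRel p₁ p₂ W) := by
  obtain ⟨V⟩ := W
  have e : ∀ x y, SecRel p₁ p₂ (op V) x y ↔
      ∃ f : ToposFin.eps J V ⟶ R, f ≫ p₁ = epsEquiv.symm x ∧ f ≫ p₂ = epsEquiv.symm y := by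
    intro x y
    constructor
    · rintro ⟨r, rfl, rfl⟩
      exact ⟨epsEquiv.symm r, epsEquiv.injective (by simp [epsEquiv_comp]),
        epsEquiv.injective (by simp [epsEquiv_comp])⟩
    · rintro ⟨f, h₁, h₂⟩
      exact ⟨epsEquiv f, by rw [← epsEquiv_comp, h₁, Equiv.apply_symm_apply],
        by rw [← epsEquiv_comp, h₂, Equiv.apply_symm_apply]⟩
  have h := (hR (ToposFin.eps J V)).2
  exact ⟨fun x => (e x x).2 (h.refl _), fun hxy => (e _ _).2 (h.symm ((e _ _).1 hxy)),
    fun hxy hyz => (e _ _).2 (h.trans ((e _ _).1 hxy) ((e _ _).1 hyz))⟩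

/-- The quotient presheaf. -/
def quotPsh : Cᵒᵖ ⥤ Type u where
  obj W := Quot (SecRel p₁ p₂ W)
  map g := TypeCat.ofHom (Quot.map (A.obj.map g) (by
    rintro x y ⟨r, rfl, rfl⟩
    exact ⟨R.obj.map g r, NatTrans.naturality_apply p₁.hom g r,
      NatTrans.naturality_apply p₂.hom g r⟩))
  map_id W := by
    ext q
    obtain ⟨x, rfl⟩ := Quot.exists_rep q
    exact congrArg (Quot.mk _) (ConcreteCategory.congr_hom (A.obj.map_id W) x)
  map_comp g g' := by
    ext q
    obtain ⟨x, rfl⟩ := Quot.exists_rep q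
    exact congrArg (Quot.mk _) (ConcreteCategory.congr_hom (A.obj.map_comp g g') x)

/-- The projection. -/
def quotProj : A.obj ⟶ quotPsh p₁ p₂ where
  app W := TypeCat.ofHom (Quot.mk _)

/-- The quotient sheaf. -/
noncomputable def quotSheaf : Sheaf J (Type u) := (presheafToSheaf J (Type u)).obj (quotPsh p₁ p₂)

/-- The quotient map. -/
noncomputable def quotMap : A ⟶ quotSheaf p₁ p₂ :=
  ⟨quotProj p₁ p₂ ≫ toSheafify J (quotPsh p₁ p₂)⟩

lemma quotMap_condition : p₁ ≫ quotMap p₁ p₂ = p₂ ≫ quotMap p₁ p₂ := by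
  apply ObjectProperty.hom_ext
  ext W r
  exact congrArg (fun q : (quotPsh p₁ p₂).obj W => (toSheafify J (quotPsh p₁ p₂)).app W q)
    (Quot.sound ⟨r, rfl, rfl⟩)

lemma epi_quotMap : Epi (quotMap p₁ p₂) := by
  refine IsEpiFam.epi (isEpiFam_of_liftSieve_mem fun V s => J.superset_covering ?_
    (Presheaf.imageSieve_mem J (toSheafify J (quotPsh p₁ p₂)) s))
  rintro V' g ⟨q, hq⟩
  obtain ⟨x, rfl⟩ := Quot.exists_rep q
  exact ⟨(), x, hq⟩

include hR in
lemma isPullback_quotMap : IsPullback p₁ p₂ (quotMap p₁ p₂) (quotMap p₁ p₂) := by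
  apply IsPullback.of_map (sheafToPresheaf J (Type u)) (quotMap_condition p₁ p₂)
  apply IsPullback.of_forall_isPullback_app
  rintro ⟨V⟩
  rw [Types.isPullback_iff]
  refine ⟨?_, fun r r' h => secRel_injective p₁ p₂ hR (op V) r r' h.1 h.2, ?_⟩
  · exact NatTrans.congr_app (congrArg (fun t : R ⟶ quotSheaf p₁ p₂ => t.hom)
      (quotMap_condition p₁ p₂)) (op V)
  intro x y hxy
  let S := Presheaf.equalizerSieve (F := quotPsh p₁ p₂)
    ((quotProj p₁ p₂).app (op V) x) ((quotProj p₁ p₂).app (op V) y)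
  have hS : S ∈ J V := Presheaf.equalizerSieve_mem J (toSheafify J (quotPsh p₁ p₂)) _ _ hxy
  have hex : ∀ ⦃W : C⦄ (g : W ⟶ V), S g →
      SecRel p₁ p₂ (op W) (A.obj.map g.op x) (A.obj.map g.op y) := by
    intro W g hg
    exact ((secRel_equivalence p₁ p₂ hR (op W)).eqvGen_iff).1 (Quot.eqvGen_exact hg)
  obtain ⟨r, hr, -⟩ := (isSheaf_iff_isSheaf_of_type _ _).1 R.property S hS
    (fun W g hg => (hex g hg).choose) fun W₁ W₂ W g₁ g₂ f₁ f₂ h₁ h₂ e => by
      obtain ⟨ha, hb⟩ := (hex f₁ h₁).choose_spec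
      obtain ⟨hc, hd⟩ := (hex f₂ h₂).choose_spec
      refine secRel_injective p₁ p₂ hR _ _ _ ?_ ?_
      · rw [NatTrans.naturality_apply, NatTrans.naturality_apply, ha, hc,
          ← Functor.map_comp_apply, ← Functor.map_comp_apply, ← op_comp, ← op_comp, e]
      · rw [NatTrans.naturality_apply, NatTrans.naturality_apply, hb, hd,
          ← Functor.map_comp_apply, ← Functor.map_comp_apply, ← op_comp, ← op_comp, e]
  refine ⟨r, ?_, ?_⟩
  · refine ((isSheaf_iff_isSheaf_of_type _ _).1 A.property S hS).isSeparatedFor.ext fun W g hg => ?_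
    refine (NatTrans.naturality_apply p₁.hom g.op r).symm.trans ?_
    rw [hr g hg]
    exact (hex g hg).choose_spec.1
  · refine ((isSheaf_iff_isSheaf_of_type _ _).1 A.property S hS).isSeparatedFor.ext fun W g hg => ?_
    refine (NatTrans.naturality_apply p₂.hom g.op r).symm.trans ?_
    rw [hr g hg]
    exact (hex g hg).choose_spec.2

include hR in
theorem effectiveUniversal_sheaf : SGA4.IsEffectiveUniversalEquivRel p₁ p₂ := by
  have := epi_quotMap p₁ p₂
  have hpb := isPullback_quotMap p₁ p₂ hR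
  have := effectiveEpi_of_epi (quotMap p₁ p₂)
  refine ⟨_, quotMap p₁ p₂, hpb, ?_, fun B' g => ?_⟩
  · exact (isPushout_of_effectiveEpi (quotMap p₁ p₂)).of_iso hpb.isoPullback.symm (Iso.refl _)
      (Iso.refl _) (Iso.refl _) (by simp) (by simp) (by simp) (by simp)
  · have := epi_pullback_snd (quotMap p₁ p₂) g
    exact effectiveEpi_of_epi _

end EquivRel

theorem sheafTopos_giraud_axioms :
    SGA4.HasDisjointUniversalCoproducts.{u + 1, u} (Sheaf J (Type u)) ∧
    ∀ (R A : Sheaf J (Type u)) (p₁ p₂ : R ⟶ A), SGA4.IsEquivRel p₁ p₂ →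
      SGA4.IsEffectiveUniversalEquivRel p₁ p₂ :=
  ⟨hasDisjointUniversalCoproducts_sheaf, fun _ _ p₁ p₂ h => effectiveUniversal_sheaf p₁ p₂ h⟩

end Groth.Agent.Giraud45
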