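import Groth.Agent.Giraud45.Site
import Groth.Agent.Giraud45.SheafAxioms
import Mathlib.CategoryTheory.Adjunction.Evaluation
import Mathlib.CategoryTheory.Limits.FunctorCategory.Shapes.Pullbacks

/-!
Functor categories with values in a category of sheaves of sets are topoi.
-/

set_option autoImplicit false
universe u v

open CategoryTheory Limits Opposite

namespace Groth.Agent.Giraud45

variable {C : Type u} [SmallCategory C] (J : GrothendieckTopology C) (D : Type u) [SmallCategory D]

theorem hasDisjointUniversalCoproducts_functor :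
    SGA4.HasDisjointUniversalCoproducts.{u + 1, u} (D ⥤ Sheaf J (Type u)) := by
  intro ι X
  let c : Cofan X := colimit.cocone (Discrete.functor X)
  have hc : IsColimit c := colimit.isColimit _
  let cd : ∀ d : D, Cofan (fun i => (X i).obj d) := fun d =>
    Cofan.mk (c.pt.obj d) (fun i => (c.inj i).app d)
  have hcd : ∀ d, IsColimit (cd d) := fun d =>
    isColimitCofanMkObjOfIsColimit ((evaluation D (Sheaf J (Type u))).obj d) X (fun i => c.inj i) hc
  have : ∀ i, Mono (c.inj i) := fun i => by
    have : ∀ d, Mono ((c.inj i).app d) := fun d => Topos46.mono_cofan_inj (hcd d) i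
    exact NatTrans.mono_of_mono_app _
  refine ⟨c, hc, CoproductDisjoint.of_cofan hc
    (fun {i j} _ => pullback.cone (c.inj i) (c.inj j))
    (fun {i j} _ => pullback.isLimit _ _) (fun {i j} hij => ?_), ?_⟩
  · have hI : ∀ d, IsInitial ((pullback (c.inj i) (c.inj j)).obj d) := fun d =>
      IsInitial.ofIso initialIsInitial (Topos46.isVoid_iff_iso_initial.1
        (Topos46.isVoid_of_comm_inj (hcd d) hij ((pullback.fst (c.inj i) (c.inj j)).app d)
          ((pullback.snd (c.inj i) (c.inj j)).app d)
          (NatTrans.congr_app pullback.condition d))).some.symm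
    exact IsInitial.ofUniqueHom
      (fun Z => { app := fun d => (hI d).to _, naturality := fun _ _ _ => (hI _).hom_ext _ _ })
      (fun Z m => by ext d : 2; exact (hI d).hom_ext _ _)
  · intro F' c' α f hα _ sq
    refine ⟨evaluationJointlyReflectsColimits _ fun d => ?_⟩
    let α' : F' ⋙ (evaluation D (Sheaf J (Type u))).obj d ⟶ Discrete.functor (fun i => (X i).obj d) :=
      Discrete.natTrans fun j => (α.app j).app d
    exact (isUniversalColimit_cofan (hcd d) (((evaluation D (Sheaf J (Type u))).obj d).mapCocone c') α'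
      (f.app d) (by
        apply NatTrans.ext
        funext j
        exact NatTrans.congr_app (NatTrans.congr_app hα j) d)
      (.of_discrete _) fun ⟨i⟩ => (sq ⟨i⟩).map ((evaluation D (Sheaf J (Type u))).obj d)).some

theorem effectiveUniversal_functor (R A : D ⥤ Sheaf J (Type u)) (p₁ p₂ : R ⟶ A)
    (hR : SGA4.IsEquivRel p₁ p₂) : SGA4.IsEffectiveUniversalEquivRel p₁ p₂ := by
  have hRd : ∀ d, SGA4.IsEquivRel (p₁.app d) (p₂.app d) := by
    intro d T
    let adj := evaluationAdjunctionRight (Sheaf J (Type u)) d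
    let e := fun F => adj.homEquiv T F
    have he : ∀ {f : (evaluationLeftAdjoint (Sheaf J (Type u)) d).obj T ⟶ R} (q : R ⟶ A),
        e A (f ≫ q) = e R f ≫ q.app d := fun q => adj.homEquiv_naturality_right _ q
    have hsymm : ∀ (g : T ⟶ R.obj d) (q : R ⟶ A),
        (e R).symm g ≫ q = (e A).symm (g ≫ q.app d) := fun g q =>
      (adj.homEquiv_naturality_right_symm g q).symm
    obtain ⟨hinj, hequiv⟩ := hR ((evaluationLeftAdjoint (Sheaf J (Type u)) d).obj T)
    have key : ∀ a b : T ⟶ A.obj d,
        (∃ g : T ⟶ R.obj d, g ≫ p₁.app d = a ∧ g ≫ p₂.app d = b) ↔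
          ∃ f, f ≫ p₁ = (e A).symm a ∧ f ≫ p₂ = (e A).symm b := by
      intro a b
      constructor
      · rintro ⟨g, rfl, rfl⟩
        exact ⟨(e R).symm g, hsymm g p₁, hsymm g p₂⟩
      · rintro ⟨f, h₁, h₂⟩
        exact ⟨e R f, by rw [← he, h₁, Equiv.apply_symm_apply],
          by rw [← he, h₂, Equiv.apply_symm_apply]⟩
    refine ⟨fun g g' h => (e R).symm.injective (hinj (Prod.ext ?_ ?_)),
      ⟨fun a => (key a a).2 (hequiv.refl _), fun h => (key _ _).2 (hequiv.symm ((key _ _).1 h)),
        fun h h' => (key _ _).2 (hequiv.trans ((key _ _).1 h) ((key _ _).1 h'))⟩⟩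
    · change (e R).symm g ≫ p₁ = (e R).symm g' ≫ p₁
      rw [hsymm, hsymm]; exact congrArg _ (congrArg Prod.fst h)
    · change (e R).symm g ≫ p₂ = (e R).symm g' ≫ p₂
      rw [hsymm, hsymm]; exact congrArg _ (congrArg Prod.snd h)
  let π := coequalizer.π p₁ p₂
  have hcof : ∀ d, IsColimit (Cofork.ofπ (π.app d)
      (NatTrans.congr_app (coequalizer.condition p₁ p₂) d)) := fun d =>
    isColimitCoforkMapOfIsColimit ((evaluation D (Sheaf J (Type u))).obj d)
      (coequalizer.condition p₁ p₂) (coequalizerIsCoequalizer p₁ p₂)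
  have hpw : ∀ d, IsPullback (p₁.app d) (p₂.app d) (π.app d) (π.app d) ∧ Epi (π.app d) := by
    intro d
    have hepi : Epi (π.app d) := ⟨fun a b h => Cofork.IsColimit.hom_ext (hcof d) h⟩
    have hpb := isPullback_quotMap (p₁.app d) (p₂.app d) (hRd d)
    refine ⟨IsPullback.of_iso_pullback ⟨NatTrans.congr_app (coequalizer.condition p₁ p₂) d⟩
      (hpb.isoPullback ≪≫ ?_) ?_ ?_, hepi⟩
    · -- compare the two quotients
      obtain ⟨l, hl⟩ := Cofork.IsColimit.desc' (hcof d) _
        (quotMap_condition (p₁.app d) (p₂.app d))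
      have hl' : π.app d ≫ l = quotMap (p₁.app d) (p₂.app d) := hl
      exact
        { hom := pullback.lift (pullback.fst _ _) (pullback.snd _ _) (by
            have hpb' := hpb
            obtain ⟨g, hg₁, hg₂⟩ : ∃ g, g ≫ p₁.app d = pullback.fst _ _ ∧ g ≫ p₂.app d = pullback.snd _ _ :=
              ⟨hpb.lift (pullback.fst _ _) (pullback.snd _ _) pullback.condition,
                hpb.lift_fst _ _ _, hpb.lift_snd _ _ _⟩
            rw [← hg₁, ← hg₂, Category.assoc, Category.assoc]
            exact congrArg (g ≫ ·) (NatTrans.congr_app (coequalizer.condition p₁ p₂) d))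
          inv := pullback.lift (pullback.fst _ _) (pullback.snd _ _) (by
            rw [← hl', pullback.condition_assoc])
          hom_inv_id := by apply pullback.hom_ext <;> simp [pullback.lift_fst, pullback.lift_snd]
          inv_hom_id := by apply pullback.hom_ext <;> simp [pullback.lift_fst, pullback.lift_snd] }
    · simp [pullback.lift_fst]
    · simp [pullback.lift_snd]
  have hpb : IsPullback p₁ p₂ π π :=
    ⟨⟨coequalizer.condition p₁ p₂⟩, ⟨evaluationJointlyReflectsLimits _ fun d =>
      (PullbackCone.isLimitMapConeEquiv _ _).symm (hpw d).1.isLimit⟩⟩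
  have heff : ∀ {P Q : D ⥤ Sheaf J (Type u)} (φ : P ⟶ Q), (∀ d, Epi (φ.app d)) → EffectiveEpi φ := by
    intro P Q φ hφ
    apply effectiveEpi_of_isPushout
    refine IsPushout.of_forall_isPushout_app fun d => ?_
    have := hφ d
    have := effectiveEpi_of_epi (φ.app d)
    exact (isPushout_of_effectiveEpi (φ.app d)).of_iso
      ((PreservesPullback.iso ((evaluation D (Sheaf J (Type u))).obj d) φ φ).symm)
      (Iso.refl _) (Iso.refl _) (Iso.refl _)
      ((Category.comp_id _).trans
        (PreservesPullback.iso_inv_fst ((evaluation D (Sheaf J (Type u))).obj d) φ φ).symm)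
      ((Category.comp_id _).trans
        (PreservesPullback.iso_inv_snd ((evaluation D (Sheaf J (Type u))).obj d) φ φ).symm)
      (by simp) (by simp)
  have := heff π fun d => (hpw d).2
  refine ⟨_, π, hpb, ?_, fun B' g => heff _ fun d => ?_⟩
  · exact (isPushout_of_effectiveEpi π).of_iso hpb.isoPullback.symm (Iso.refl _)
      (Iso.refl _) (Iso.refl _) (by simp) (by simp) (by simp) (by simp)
  · have := (hpw d).2
    exact ((Topos46.isEpiFam_of_epi (π.app d)).of_isPullback (g.app d) _ _
      (fun _ => ((IsPullback.of_hasPullback π g).map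
        ((evaluation D (Sheaf J (Type u))).obj d)).flip)).epi

/-- `D ⥤ Sheaf J` is a topos. -/
theorem isTopos_functor : SGA4.IsTopos.{u + 1, u} (D ⥤ Sheaf J (Type u)) := by
  refine giraud (hasDisjointUniversalCoproducts_functor J D) (effectiveUniversal_functor J D) ?_
  let G : D × C → (D ⥤ Sheaf J (Type u)) := fun p =>
    (evaluationLeftAdjoint (Sheaf J (Type u)) p.1).obj (ToposFin.eps J p.2)
  refine ⟨ObjectProperty.ofObj G, inferInstance, fun X Y f hf => ?_⟩
  have : ∀ d, IsIso (f.app d) := by
    intro d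
    rw [← isIso_iff_of_reflects_iso (f.app d) (sheafToPresheaf J (Type u)),
      NatTrans.isIso_iff_isIso_app]
    rintro ⟨V⟩
    rw [isIso_iff_bijective]
    let adj := evaluationAdjunctionRight (Sheaf J (Type u)) d
    let e := fun F => (adj.homEquiv (ToposFin.eps J V) F).trans Topos46.epsEquiv
    have he : ∀ g, e Y (g ≫ f) = (f.app d).hom.app (op V) (e X g) := fun g =>
      (congrArg Topos46.epsEquiv (adj.homEquiv_naturality_right g f)).trans (Topos46.epsEquiv_comp _ _)
    rw [Function.bijective_iff_existsUnique]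
    intro y
    obtain ⟨g, hg, hu⟩ := hf (G (d, V)) (ObjectProperty.ofObj_apply G (d, V)) ((e Y).symm y)
    refine ⟨e X g, ?_, fun x hx => ?_⟩
    · change (f.app d).hom.app (op V) (e X g) = y
      rw [← he, hg, Equiv.apply_symm_apply]
    · rw [← hu ((e X).symm x) ((e Y).injective (by
        rw [he, Equiv.apply_symm_apply, Equiv.apply_symm_apply]; exact hx)), Equiv.apply_symm_apply]
  exact NatIso.isIso_of_isIso_app f

theorem isTopos_functor_of_isTopos {E : Type v} [Category.{u} E] (hE : SGA4.IsTopos E) :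
    SGA4.IsTopos (D ⥤ E) := by
  obtain ⟨C', _, J', ⟨e⟩⟩ := hE
  obtain ⟨C'', i'', J'', ⟨e'⟩⟩ := isTopos_functor J' D
  exact ⟨C'', i'', J'', ⟨e.congrRight.trans e'⟩⟩

end Groth.Agent.Giraud45
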