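import Groth.Agent.Giraud45.SheafAxioms
import Mathlib.CategoryTheory.Limits.Preserves.Shapes.BinaryProducts
import Mathlib.CategoryTheory.Limits.Preserves.Shapes.Pullbacks
import Mathlib.CategoryTheory.Limits.Preserves.Finite
import Mathlib.CategoryTheory.Limits.Shapes.Diagonal

/-!
Giraud's axioms are inherited along a pair of jointly conservative exact functors to sheaf categories.
-/

set_option autoImplicit false
universe u v

open CategoryTheory Limits Opposite

namespace Groth.Agent.Giraud45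

variable {E : Type v} [Category.{u} E] [HasFiniteLimits E]

section single

variable {C : Type u} [SmallCategory C] {J : GrothendieckTopology C}
  (G : E ⥤ Sheaf J (Type u)) [PreservesFiniteLimits G]

lemma isIso_map_desc_of_universal {ι : Type u} [PreservesColimitsOfShape (Discrete ι) G]
    [HasColimitsOfShape (Discrete ι) E] {X : ι → E} {c : Cofan X} (hc : IsColimit c)
    {F' : Discrete ι ⥤ E} (c' : Cocone F') (α : F' ⟶ Discrete.functor X) (f : c'.pt ⟶ c.pt)
    (hα : α ≫ c.ι = c'.ι ≫ (Functor.const _).map f)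
    (sq : ∀ j, IsPullback (c'.ι.app j) (α.app j) f (c.ι.app j)) :
    IsIso (G.map (colimit.desc F' c')) := by
  let c₀ : Cofan (fun i => G.obj (X i)) := Cofan.mk (G.obj c.pt) (fun i => G.map (c.inj i))
  have hc₀ : IsColimit c₀ := isColimitCofanMkObjOfIsColimit G X (fun i => c.inj i) hc
  let α' : F' ⋙ G ⟶ Discrete.functor (fun i => G.obj (X i)) :=
    Discrete.natTrans fun j => G.map (α.app j)
  obtain ⟨h⟩ := isUniversalColimit_cofan hc₀ (G.mapCocone c') α' (G.map f) (by
      apply NatTrans.ext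
      funext j
      refine ((G.map_comp _ _).symm.trans ?_).trans (G.map_comp _ _)
      exact congrArg G.map (NatTrans.congr_app hα j))
    (.of_discrete _) (fun ⟨i⟩ => (sq ⟨i⟩).map G)
  let h' := isColimitOfPreserves G (colimit.isColimit F')
  have e : G.map (colimit.desc F' c') = (h'.coconePointUniqueUpToIso h).hom :=
    h'.hom_ext fun j => by
      rw [IsColimit.comp_coconePointUniqueUpToIso_hom]
      exact (G.map_comp _ _).symm.trans (congrArg G.map (colimit.ι_desc _ _))
  rw [e]
  infer_instance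

lemma mono_map_inj {ι : Type u} [PreservesColimitsOfShape (Discrete ι) G] {X : ι → E}
    {c : Cofan X} (hc : IsColimit c) (i : ι) : Mono (G.map (c.inj i)) :=
  Topos46.mono_cofan_inj (isColimitCofanMkObjOfIsColimit G X (fun i => c.inj i) hc) i

lemma isIso_map_pullback_fst_of_mono {A B : E} (f : A ⟶ B) [Mono (G.map f)] :
    IsIso (G.map (pullback.fst f f)) :=
  ((IsPullback.of_hasPullback f f).map G).isIso_fst_of_mono

lemma isVoid_map {ι : Type u} [PreservesColimitsOfShape (Discrete ι) G] {X : ι → E}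
    {c : Cofan X} (hc : IsColimit c) {i j : ι} (hij : i ≠ j) :
    Topos46.IsVoid (G.obj (pullback (c.inj i) (c.inj j))) := by
  refine Topos46.isVoid_of_comm_inj (isColimitCofanMkObjOfIsColimit G X (fun i => c.inj i) hc) hij
    (G.map (pullback.fst (c.inj i) (c.inj j))) (G.map (pullback.snd (c.inj i) (c.inj j))) ?_
  show G.map _ ≫ G.map _ = G.map _ ≫ G.map _
  rw [← G.map_comp, ← G.map_comp, pullback.condition]

lemma isIso_map_initial_to [HasInitial E] [PreservesColimit (Functor.empty.{0} E) G] {P : E}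
    (hP : Topos46.IsVoid (G.obj P)) : IsIso (G.map (initial.to P)) := by
  obtain ⟨e⟩ := Topos46.isVoid_iff_iso_initial.1 hP
  exact isIso_of_isInitial (IsInitial.isInitialObj G _ initialIsInitial)
    (IsInitial.ofIso initialIsInitial e.symm) _

lemma isEquivRel_map {R A : E} (p₁ p₂ : R ⟶ A) (hR : SGA4.IsEquivRel p₁ p₂) :
    SGA4.IsEquivRel (G.map p₁) (G.map p₂) := by
  have hmono : Mono (prod.lift p₁ p₂) := ⟨fun a b e => (hR _).1 (Prod.ext
    (by simpa [prod.lift_fst] using congrArg (· ≫ prod.fst) e) (by simpa [prod.lift_snd] using congrArg (· ≫ prod.snd) e))⟩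
  obtain ⟨d, hd₁, hd₂⟩ := (hR A).2.refl (𝟙 A)
  obtain ⟨σ, hσ₁, hσ₂⟩ := (hR R).2.symm (x := p₁) (y := p₂)
    ⟨𝟙 R, Category.id_comp _, Category.id_comp _⟩
  obtain ⟨τ, hτ₁, hτ₂⟩ := (hR (pullback p₂ p₁)).2.trans
    (x := pullback.fst p₂ p₁ ≫ p₁) (y := pullback.fst p₂ p₁ ≫ p₂) (z := pullback.snd p₂ p₁ ≫ p₂)
    ⟨pullback.fst p₂ p₁, rfl, rfl⟩ ⟨pullback.snd p₂ p₁, pullback.condition.symm, rfl⟩
  intro T
  refine ⟨fun f g e => ?_, ⟨fun a => ⟨a ≫ G.map d, ?_, ?_⟩, ?_, ?_⟩⟩
  · rw [← cancel_mono (G.map (prod.lift p₁ p₂))]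
    apply BinaryFan.IsLimit.hom_ext (isLimitOfHasBinaryProductOfPreservesLimit G A A)
    · change (f ≫ G.map _) ≫ G.map prod.fst = (g ≫ G.map _) ≫ G.map prod.fst
      rw [Category.assoc, Category.assoc, ← G.map_comp, prod.lift_fst]
      exact congrArg Prod.fst e
    · change (f ≫ G.map _) ≫ G.map prod.snd = (g ≫ G.map _) ≫ G.map prod.snd
      rw [Category.assoc, Category.assoc, ← G.map_comp, prod.lift_snd]
      exact congrArg Prod.snd e
  · rw [Category.assoc, ← G.map_comp, hd₁, G.map_id, Category.comp_id]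
  · rw [Category.assoc, ← G.map_comp, hd₂, G.map_id, Category.comp_id]
  · rintro a b ⟨f, rfl, rfl⟩
    exact ⟨f ≫ G.map σ, by rw [Category.assoc, ← G.map_comp, hσ₁],
      by rw [Category.assoc, ← G.map_comp, hσ₂]⟩
  · rintro a b c ⟨f, rfl, h⟩ ⟨g, h', rfl⟩
    let l := ((IsPullback.of_hasPullback p₂ p₁).map G).lift f g (h.trans h'.symm)
    refine ⟨l ≫ G.map τ, ?_, ?_⟩
    · rw [Category.assoc, ← G.map_comp, hτ₁, G.map_comp, ← Category.assoc, IsPullback.lift_fst]
    · rw [Category.assoc, ← G.map_comp, hτ₂, G.map_comp, ← Category.assoc, IsPullback.lift_snd]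

/-- The image of a coequalizer of an equivalence relation has that relation as kernel pair. -/
lemma isPullback_map_coequalizer {R A : E} (p₁ p₂ : R ⟶ A) (hR : SGA4.IsEquivRel p₁ p₂)
    [HasCoequalizer p₁ p₂] [PreservesColimit (parallelPair p₁ p₂) G] :
    IsPullback (G.map p₁) (G.map p₂) (G.map (coequalizer.π p₁ p₂))
      (G.map (coequalizer.π p₁ p₂)) ∧ Epi (G.map (coequalizer.π p₁ p₂)) := by
  have hcof := isColimitCoforkMapOfIsColimit G (coequalizer.condition p₁ p₂)
    (coequalizerIsCoequalizer p₁ p₂)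
  refine ⟨?_, ⟨fun a b h => Cofork.IsColimit.hom_ext hcof h⟩⟩
  have hq := isPullback_quotMap (G.map p₁) (G.map p₂) (isEquivRel_map G p₁ p₂ hR)
  obtain ⟨l, hl⟩ := Cofork.IsColimit.desc' hcof _ (quotMap_condition (G.map p₁) (G.map p₂))
  have hl' : G.map (coequalizer.π p₁ p₂) ≫ l = quotMap (G.map p₁) (G.map p₂) := hl
  have hw : G.map p₁ ≫ G.map (coequalizer.π p₁ p₂) = G.map p₂ ≫ G.map (coequalizer.π p₁ p₂) := by
    rw [← G.map_comp, ← G.map_comp, coequalizer.condition]
  refine ⟨⟨hw⟩, ⟨PullbackCone.IsLimit.mk hw (fun s => hq.lift s.fst s.snd ?_)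
    (fun s => hq.lift_fst _ _ _) (fun s => hq.lift_snd _ _ _)
    (fun s m h₁ h₂ => hq.hom_ext (h₁.trans (hq.lift_fst _ _ _).symm)
      (h₂.trans (hq.lift_snd _ _ _).symm))⟩⟩
  rw [← hl', ← Category.assoc, ← Category.assoc, s.condition]

lemma isIso_map_comparison_of_kernel {P Q : E} (φ : P ⟶ Q) [Epi (G.map φ)]
    [HasCoequalizer (pullback.fst φ φ) (pullback.snd φ φ)]
    [PreservesColimit (parallelPair (pullback.fst φ φ) (pullback.snd φ φ)) G] :
    IsIso (G.map (coequalizer.desc φ (pullback.condition (f := φ) (g := φ)))) := by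
  have hcof := isColimitCoforkMapOfIsColimit G
    (coequalizer.condition (pullback.fst φ φ) (pullback.snd φ φ))
    (coequalizerIsCoequalizer (pullback.fst φ φ) (pullback.snd φ φ))
  have := effectiveEpi_of_epi (G.map φ)
  have hpo : IsPushout (G.map (pullback.fst φ φ)) (G.map (pullback.snd φ φ)) (G.map φ) (G.map φ) :=
    (isPushout_of_effectiveEpi (G.map φ)).of_iso
    ((PreservesPullback.iso G φ φ).symm) (Iso.refl _) (Iso.refl _) (Iso.refl _)
    ((Category.comp_id _).trans (PreservesPullback.iso_inv_fst G φ φ).symm)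
    ((Category.comp_id _).trans (PreservesPullback.iso_inv_snd G φ φ).symm)
    (by simp) (by simp)
  have hπ : G.map (coequalizer.π (pullback.fst φ φ) (pullback.snd φ φ)) ≫
      G.map (coequalizer.desc φ (pullback.condition (f := φ) (g := φ))) = G.map φ := by
    rw [← G.map_comp, coequalizer.π_desc]
  let inv' := hpo.desc (G.map (coequalizer.π (pullback.fst φ φ) (pullback.snd φ φ)))
    (G.map (coequalizer.π (pullback.fst φ φ) (pullback.snd φ φ))) (by
      rw [← G.map_comp, ← G.map_comp, coequalizer.condition])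
  refine ⟨inv', Cofork.IsColimit.hom_ext hcof ?_, (cancel_epi (G.map φ)).1 ?_⟩
  · show G.map _ ≫ _ ≫ inv' = G.map _ ≫ 𝟙 _
    rw [← Category.assoc, hπ, Category.comp_id]
    exact hpo.inl_desc _ _ _
  · rw [← Category.assoc, hpo.inl_desc, hπ, Category.comp_id]

end single

section pair

variable [∀ ι : Type u, HasColimitsOfShape (Discrete ι) E]
  {C₁ : Type u} [SmallCategory C₁] {J₁ : GrothendieckTopology C₁} (G₁ : E ⥤ Sheaf J₁ (Type u))
  [PreservesFiniteLimits G₁] [∀ ι : Type u, PreservesColimitsOfShape (Discrete ι) G₁]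
  {C₂ : Type u} [SmallCategory C₂] {J₂ : GrothendieckTopology C₂} (G₂ : E ⥤ Sheaf J₂ (Type u))
  [PreservesFiniteLimits G₂] [∀ ι : Type u, PreservesColimitsOfShape (Discrete ι) G₂]
  (hcons : ∀ ⦃X Y : E⦄ (f : X ⟶ Y), IsIso (G₁.map f) → IsIso (G₂.map f) → IsIso f)

include hcons in
theorem hasDisjointUniversalCoproducts_of_pair [HasInitial E]
    [PreservesColimit (Functor.empty.{0} E) G₁] [PreservesColimit (Functor.empty.{0} E) G₂] :
    SGA4.HasDisjointUniversalCoproducts.{v, u} E := by
  intro ι X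
  let c : Cofan X := colimit.cocone (Discrete.functor X)
  have hc : IsColimit c := colimit.isColimit _
  have : ∀ i, Mono (c.inj i) := fun i => by
    have := mono_map_inj G₁ hc i
    have := mono_map_inj G₂ hc i
    have h : IsIso (pullback.fst (c.inj i) (c.inj i)) :=
      hcons _ (isIso_map_pullback_fst_of_mono G₁ _) (isIso_map_pullback_fst_of_mono G₂ _)
    exact ⟨fun a b e => by
      obtain ⟨d, hd₁, hd₂⟩ : ∃ d : _ ⟶ pullback (c.inj i) (c.inj i), d ≫ pullback.fst _ _ = a ∧
          d ≫ pullback.snd _ _ = b := ⟨pullback.lift a b e, pullback.lift_fst _ _ _, pullback.lift_snd _ _ _⟩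
      have hfs : pullback.fst (c.inj i) (c.inj i) = pullback.snd (c.inj i) (c.inj i) := by
        have h1 : pullback.lift (𝟙 (X i)) (𝟙 (X i)) rfl = inv (pullback.fst (c.inj i) (c.inj i)) :=
          IsIso.eq_inv_of_inv_hom_id (pullback.lift_fst _ _ _)
        have h2 := pullback.lift_snd (f := c.inj i) (g := c.inj i) (𝟙 (X i)) (𝟙 (X i)) rfl
        rw [h1, IsIso.inv_comp_eq, Category.comp_id] at h2
        exact h2.symm
      rw [← hd₁, ← hd₂, hfs]⟩
  refine ⟨c, hc, CoproductDisjoint.of_cofan hc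
    (fun {i j} _ => pullback.cone (c.inj i) (c.inj j))
    (fun {i j} _ => pullback.isLimit _ _) (fun {i j} hij => ?_), ?_⟩
  · have : IsIso (initial.to (pullback (c.inj i) (c.inj j))) :=
      hcons _ (isIso_map_initial_to G₁ (isVoid_map G₁ hc hij))
        (isIso_map_initial_to G₂ (isVoid_map G₂ hc hij))
    exact IsInitial.ofIso initialIsInitial (asIso (initial.to (pullback (c.inj i) (c.inj j))))
  · intro F' c' α f hα _ sq
    have : IsIso ((colimit.isColimit F').desc c') :=
      hcons _ (isIso_map_desc_of_universal G₁ hc c' α f hα sq)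
        (isIso_map_desc_of_universal G₂ hc c' α f hα sq)
    exact ⟨IsColimit.ofPointIso (colimit.isColimit F')⟩

include hcons in
theorem effectiveUniversal_of_pair [HasCoequalizers E]
    [PreservesColimitsOfShape WalkingParallelPair G₁]
    [PreservesColimitsOfShape WalkingParallelPair G₂]
    (R A : E) (p₁ p₂ : R ⟶ A) (hR : SGA4.IsEquivRel p₁ p₂) :
    SGA4.IsEffectiveUniversalEquivRel p₁ p₂ := by
  obtain ⟨hp1, he1⟩ := isPullback_map_coequalizer G₁ p₁ p₂ hR
  obtain ⟨hp2, he2⟩ := isPullback_map_coequalizer G₂ p₁ p₂ hR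
  let π := coequalizer.π p₁ p₂
  let k : R ⟶ pullback π π := pullback.lift p₁ p₂ (coequalizer.condition p₁ p₂)
  have hk : ∀ {C : Type u} [SmallCategory C] {J : GrothendieckTopology C}
      (G : E ⥤ Sheaf J (Type u)) [PreservesFiniteLimits G],
      IsPullback (G.map p₁) (G.map p₂) (G.map π) (G.map π) → IsIso (G.map k) := by
    intro C _ J G _ hp
    let h2 := (IsPullback.of_hasPullback π π).map G
    have : G.map k = (hp.isoIsPullback _ _ h2).hom := by
      apply h2.hom_ext
      · rw [IsPullback.isoIsPullback_hom_fst, ← G.map_comp, pullback.lift_fst]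
      · rw [IsPullback.isoIsPullback_hom_snd, ← G.map_comp, pullback.lift_snd]
    rw [this]
    infer_instance
  have : IsIso k := hcons _ (hk G₁ hp1) (hk G₂ hp2)
  have hpb : IsPullback p₁ p₂ π π :=
    IsPullback.of_iso_pullback ⟨coequalizer.condition p₁ p₂⟩ (asIso k) (pullback.lift_fst _ _ _)
      (pullback.lift_snd _ _ _)
  have heff : ∀ {P Q : E} (φ : P ⟶ Q), Epi (G₁.map φ) → Epi (G₂.map φ) → EffectiveEpi φ := by
    intro P Q φ _ _
    have : IsIso (coequalizer.desc φ (pullback.condition (f := φ) (g := φ))) :=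
      hcons _ (isIso_map_comparison_of_kernel G₁ φ) (isIso_map_comparison_of_kernel G₂ φ)
    have hfac : coequalizer.π (pullback.fst φ φ) (pullback.snd φ φ) ≫
        coequalizer.desc φ (pullback.condition (f := φ) (g := φ)) = φ := coequalizer.π_desc _ _
    exact ⟨⟨{
      desc := fun e he => inv (coequalizer.desc φ (pullback.condition (f := φ) (g := φ))) ≫
        coequalizer.desc e (he _ _ pullback.condition)
      fac := fun e he => by
        conv_lhs => arg 1; rw [← hfac]
        rw [Category.assoc, IsIso.hom_inv_id_assoc, coequalizer.π_desc]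
      uniq := fun e he m hm => by
        rw [IsIso.eq_inv_comp]
        apply coequalizer.hom_ext
        rw [coequalizer.π_desc, ← Category.assoc, hfac, hm] }⟩⟩
  have := heff π he1 he2
  refine ⟨_, π, hpb, ?_, fun B' g => heff _ ?_ ?_⟩
  · exact (isPushout_of_effectiveEpi π).of_iso hpb.isoPullback.symm (Iso.refl _)
      (Iso.refl _) (Iso.refl _) (by simp) (by simp) (by simp) (by simp)
  · exact ((Topos46.isEpiFam_of_epi (G₁.map π)).of_isPullback (G₁.map g) _ _
      (fun _ => ((IsPullback.of_hasPullback π g).map G₁).flip)).epi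
  · exact ((Topos46.isEpiFam_of_epi (G₂.map π)).of_isPullback (G₂.map g) _ _
      (fun _ => ((IsPullback.of_hasPullback π g).map G₂).flip)).epi

end pair

end Groth.Agent.Giraud45
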