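import Groth.Agent.Giraud45.Site
import Groth.Agent.Giraud45.Transfer
import Mathlib.CategoryTheory.Limits.Comma
import Mathlib.CategoryTheory.Presentable.Presheaf
import Mathlib.CategoryTheory.Presentable.Type
import Mathlib.CategoryTheory.Presentable.Adjunction
import Mathlib.CategoryTheory.Presentable.OrthogonalReflection

/-!
The category glued along an accessible left exact functor between sheaf topoi is a topos.
-/

set_option autoImplicit false
universe u

open CategoryTheory Limits Opposite

namespace Groth.Agent.Giraud45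

section accessible

variable {C : Type u} [SmallCategory C] (J : GrothendieckTopology C)

/-- The inclusions of covering sieves. -/
def coverMaps : MorphismProperty (Cᵒᵖ ⥤ Type u) :=
  MorphismProperty.ofHoms (fun p : Σ X : C, {S : Sieve X // S ∈ J X} => p.2.1.functorInclusion)

lemma isLocal_coverMaps : (coverMaps J).isLocal = Presheaf.IsSheaf J (A := Type u) := by
  ext F
  rw [isSheaf_iff_isSheaf_of_type, MorphismProperty.isLocal_iff]
  constructor
  · intro h X S hS
    rw [Presieve.isSheafFor_iff_yonedaSheafCondition]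
    exact (Function.bijective_iff_existsUnique _).1
      (h _ (MorphismProperty.ofHoms.mk (⟨X, S, hS⟩ : Σ X : C, {S : Sieve X // S ∈ J X})))
  · rintro h A B f ⟨X, S, hS⟩
    exact (Function.bijective_iff_existsUnique _).2
      (Presieve.isSheafFor_iff_yonedaSheafCondition.1 (h S hS))

/-- `sheafToPresheaf` is `κ`-accessible for all large enough `κ`. -/
lemma exists_accessible_bound : ∃ κ₀ : Cardinal.{u}, ∀ (κ : Cardinal.{u}) [Fact κ.IsRegular],
    κ₀ ≤ κ → (sheafToPresheaf J (Type u)).IsCardinalAccessible κ := by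
  have hp : ∀ P : Cᵒᵖ ⥤ Type u, ∃ (κ : Cardinal.{u}) (_ : Fact κ.IsRegular),
      IsCardinalPresentable P κ := fun P =>
    (inferInstance : IsPresentable.{u} P).exists_cardinal
  choose κP hκP hP using hp
  let f : (Σ X : C, {S : Sieve X // S ∈ J X}) ⊕ C → Cardinal.{u} :=
    Sum.elim (fun p => κP p.2.1.functor) (fun X => κP (yoneda.obj X))
  refine ⟨⨆ i, f i, fun κ _ hκ => ?_⟩
  have hb : BddAbove (Set.range f) := Cardinal.bddAbove_of_small
  have hW : ∀ ⦃A B : Cᵒᵖ ⥤ Type u⦄ (g : A ⟶ B), coverMaps J g →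
      IsCardinalPresentable A κ ∧ IsCardinalPresentable B κ := by
    rintro A B g ⟨p⟩
    have := hκP p.2.1.functor
    have := hκP (yoneda.obj p.1)
    have := hP p.2.1.functor
    have := hP (yoneda.obj p.1)
    exact ⟨isCardinalPresentable_of_le (κ := κP p.2.1.functor) _ ((le_ciSup hb (Sum.inl p)).trans hκ),
      isCardinalPresentable_of_le (κ := κP (yoneda.obj p.1)) _ ((le_ciSup hb (Sum.inr p.1)).trans hκ)⟩
  refine ⟨fun K _ _ => ?_⟩
  have h1 := (coverMaps J).isClosedUnderColimitsOfShape_isLocal K κ hW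
  rw [isLocal_coverMaps] at h1
  exact inferInstanceAs (PreservesColimitsOfShape K (ObjectProperty.ι (Presheaf.IsSheaf J (A := Type u))))

end accessible

variable {C D : Type u} [SmallCategory C] [SmallCategory D] (J : GrothendieckTopology C)
  (K : GrothendieckTopology D) (ρ : Sheaf J (Type u) ⥤ Sheaf K (Type u))

/-- A small set of sheaves through which every section of every `ρ X` factors. -/
lemma exists_small_support [ρ.IsAccessible.{u}] :
    ∃ P : ObjectProperty (Sheaf J (Type u)), ObjectProperty.Small.{u} P ∧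
      ∀ (X : Sheaf J (Type u)) (V : D) (y : (ρ.obj X).obj.obj (op V)),
        ∃ (X' : Sheaf J (Type u)) (_ : P X') (g : X' ⟶ X) (z : (ρ.obj X').obj.obj (op V)),
          (ρ.map g).hom.app (op V) z = y := by
  obtain ⟨κρ, _, _⟩ := Functor.IsAccessible.exists_cardinal.{u} (F := ρ)
  obtain ⟨κC, hC⟩ := exists_accessible_bound J
  obtain ⟨κD, hD⟩ := exists_accessible_bound K
  let c : Cardinal.{u} := κρ ⊔ κC ⊔ κD ⊔ Cardinal.aleph0
  let κ : Cardinal.{u} := Order.succ c
  have : Fact κ.IsRegular := ⟨Cardinal.isRegular_succ le_sup_right⟩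
  have hc : c ≤ κ := Order.le_succ c
  have hρ : κρ ≤ κ := ((le_sup_left.trans le_sup_left).trans le_sup_left).trans hc
  have := hC κ (((le_sup_right.trans le_sup_left).trans le_sup_left).trans hc)
  have := hD κ ((le_sup_right.trans le_sup_left).trans hc)
  have := ρ.isCardinalAccessible_of_le hρ
  have := (sheafificationAdjunction J (Type u)).hasCardinalFilteredGenerator κ
  obtain ⟨P, hP, hgen⟩ := HasCardinalFilteredGenerator.exists_small_generator (Sheaf J (Type u)) κ
  refine ⟨P, hP, fun X V y => ?_⟩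
  obtain ⟨I, _, _, ⟨p⟩⟩ := hgen.exists_colimitsOfShape X
  have := ρ.preservesColimitsOfShape_of_isCardinalAccessible κ I
  have := (sheafToPresheaf K (Type u)).preservesColimitsOfShape_of_isCardinalAccessible κ I
  let G := ρ ⋙ sheafToPresheaf K (Type u) ⋙ (evaluation Dᵒᵖ (Type u)).obj (op V)
  obtain ⟨j, z, hz⟩ := Types.jointly_surjective_of_isColimit
    (isColimitOfPreserves G p.isColimit) y
  exact ⟨_, p.prop_diag_obj j, p.ι.app j, z, hz⟩

section

variable {A B T : Type (u + 1)} [Category.{u} A] [Category.{u} B] [Category.{u} T]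
  {L : A ⥤ T} {R : B ⥤ T} (I : Type) [SmallCategory I] [FinCategory I]
  [HasFiniteLimits A] [HasFiniteLimits B] [PreservesFiniteLimits R]

lemma preservesLimitsOfShape_fst : PreservesLimitsOfShape I (Comma.fst L R) where
  preservesLimit {F} := preservesLimit_of_preserves_limit_cone
    (Comma.coneOfPreservesIsLimit F (limit.isLimit _) (limit.isLimit _)) (limit.isLimit _)

lemma preservesLimitsOfShape_snd : PreservesLimitsOfShape I (Comma.snd L R) where
  preservesLimit {F} := preservesLimit_of_preserves_limit_cone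
    (Comma.coneOfPreservesIsLimit F (limit.isLimit _) (limit.isLimit _)) (limit.isLimit _)

end

theorem glued_isTopos [PreservesFiniteLimits ρ] [ρ.IsAccessible.{u}] :
    SGA4.IsTopos.{u + 1, u} (Comma (𝟭 (Sheaf K (Type u))) ρ) := by
  have : PreservesFiniteLimits (Comma.fst (𝟭 (Sheaf K (Type u))) ρ) :=
    ⟨fun I _ _ => preservesLimitsOfShape_fst I⟩
  have : PreservesFiniteLimits (Comma.snd (𝟭 (Sheaf K (Type u))) ρ) :=
    ⟨fun I _ _ => preservesLimitsOfShape_snd I⟩
  have hcons : ∀ ⦃X Y : Comma (𝟭 (Sheaf K (Type u))) ρ⦄ (f : X ⟶ Y),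
      IsIso ((Comma.fst _ _).map f) → IsIso ((Comma.snd _ _).map f) → IsIso f := by
    intro X Y f h1 h2
    have : IsIso f.left := h1
    have : IsIso f.right := h2
    exact ⟨(Comma.isoMk (asIso f.left) (asIso f.right) f.w).inv,
      (Comma.isoMk (asIso f.left) (asIso f.right) f.w).hom_inv_id,
      (Comma.isoMk (asIso f.left) (asIso f.right) f.w).inv_hom_id⟩
  refine giraud (hasDisjointUniversalCoproducts_of_pair (Comma.fst _ _) (Comma.snd _ _) hcons)
    (effectiveUniversal_of_pair (Comma.fst _ _) (Comma.snd _ _) hcons) ?_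
  obtain ⟨P, hP, hsupp⟩ := exists_small_support J K ρ
  let G : ((Σ V : D, Σ i : Subtype P, (ToposFin.eps K V ⟶ ρ.obj i.1)) ⊕ C) →
      Comma (𝟭 (Sheaf K (Type u))) ρ :=
    Sum.elim (fun p => { left := ToposFin.eps K p.1, right := p.2.1.1, hom := p.2.2 })
      (fun U => { left := ⊥_ _, right := ToposFin.eps J U, hom := initial.to _ })
  refine ⟨ObjectProperty.ofObj G, inferInstance, fun M N f hf => ?_⟩
  have hright : IsIso f.right := by
    rw [← isIso_iff_of_reflects_iso f.right (sheafToPresheaf J (Type u)),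
      NatTrans.isIso_iff_isIso_app]
    rintro ⟨U⟩
    rw [isIso_iff_bijective]
    let mk : ∀ {N' : Comma (𝟭 (Sheaf K (Type u))) ρ}, N'.right.obj.obj (op U) → (G (Sum.inr U) ⟶ N') :=
      fun {N'} x => { left := initial.to _, right := Topos46.epsEquiv.symm x,
                      w := initial.hom_ext _ _ }
    rw [Function.bijective_iff_existsUnique]
    intro y
    obtain ⟨g, hg, hu⟩ := hf _ (ObjectProperty.ofObj_apply G (Sum.inr U)) (mk y)
    refine ⟨Topos46.epsEquiv g.right, ?_, fun x hx => ?_⟩
    · change f.right.hom.app (op U) (Topos46.epsEquiv g.right) = y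
      rw [← Topos46.epsEquiv_comp]
      exact (congrArg Topos46.epsEquiv (congrArg CommaMorphism.right hg)).trans
        (Equiv.apply_symm_apply _ _)
    · have := hu (mk x) (by
        ext1
        · exact initial.hom_ext _ _
        · apply Topos46.epsEquiv.injective
          change Topos46.epsEquiv (Topos46.epsEquiv.symm x ≫ f.right) =
            Topos46.epsEquiv (Topos46.epsEquiv.symm y)
          rw [Topos46.epsEquiv_comp, Equiv.apply_symm_apply, Equiv.apply_symm_apply]
          exact hx)
      exact (Equiv.apply_symm_apply Topos46.epsEquiv x).symm.trans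
        (congrArg Topos46.epsEquiv (congrArg CommaMorphism.right this))
  have hleft : IsIso f.left := by
    rw [← isIso_iff_of_reflects_iso f.left (sheafToPresheaf K (Type u)),
      NatTrans.isIso_iff_isIso_app]
    rintro ⟨V⟩
    rw [isIso_iff_bijective]
    constructor
    · intro y₁ y₂ hy
      obtain ⟨a₁, rfl⟩ : ∃ a, Topos46.epsEquiv a = y₁ := Topos46.epsEquiv.surjective y₁
      obtain ⟨a₂, rfl⟩ : ∃ a, Topos46.epsEquiv a = y₂ := Topos46.epsEquiv.surjective y₂
      have e : a₁ ≫ f.left = a₂ ≫ f.left := Topos46.epsEquiv.injective (by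
        rw [Topos46.epsEquiv_comp, Topos46.epsEquiv_comp]
        exact hy)
      obtain ⟨X', hX', g, z, hz⟩ := hsupp M.right V (Topos46.epsEquiv (a₁ ≫ M.hom))
      let t : ToposFin.eps K V ⟶ ρ.obj X' := Topos46.epsEquiv.symm z
      have ht : t ≫ ρ.map g = a₁ ≫ M.hom := Topos46.epsEquiv.injective (by
        rw [Topos46.epsEquiv_comp, Equiv.apply_symm_apply, hz])
      have h12 : a₁ ≫ M.hom = a₂ ≫ M.hom := by
        have w : f.left ≫ N.hom = M.hom ≫ ρ.map f.right := f.w
        have : a₁ ≫ f.left ≫ N.hom = a₂ ≫ f.left ≫ N.hom := by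
          rw [← Category.assoc, e, Category.assoc]
        rw [w, ← Category.assoc, ← Category.assoc] at this
        exact (cancel_mono (ρ.map f.right)).1 this
      let q : ∀ a : ToposFin.eps K V ⟶ M.left, a ≫ M.hom = a₁ ≫ M.hom →
          (G (Sum.inl ⟨V, ⟨X', hX'⟩, t⟩) ⟶ M) := fun a ha =>
        { left := a, right := g, w := (ha.trans ht.symm : a ≫ M.hom = t ≫ ρ.map g) }
      have hq : q a₁ rfl ≫ f = q a₂ h12.symm ≫ f := by
        ext1
        · exact e
        · rfl
      obtain ⟨b, -, hu⟩ := hf _ (ObjectProperty.ofObj_apply G (Sum.inl ⟨V, ⟨X', hX'⟩, t⟩))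
        (q a₁ rfl ≫ f)
      have hab := (hu _ rfl).trans (hu _ hq.symm).symm
      exact congrArg Topos46.epsEquiv (congrArg CommaMorphism.left hab)
    · intro y
      let a : ToposFin.eps K V ⟶ N.left := Topos46.epsEquiv.symm y
      obtain ⟨X', hX', g, z, hz⟩ := hsupp N.right V (Topos46.epsEquiv (a ≫ N.hom))
      let t : ToposFin.eps K V ⟶ ρ.obj X' := Topos46.epsEquiv.symm z
      have ht : t ≫ ρ.map g = a ≫ N.hom := Topos46.epsEquiv.injective (by
        rw [Topos46.epsEquiv_comp, Equiv.apply_symm_apply, hz])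
      let q : G (Sum.inl ⟨V, ⟨X', hX'⟩, t⟩) ⟶ N :=
        { left := a, right := g, w := (ht.symm : a ≫ N.hom = t ≫ ρ.map g) }
      obtain ⟨b, hb, -⟩ := hf _ (ObjectProperty.ofObj_apply G (Sum.inl ⟨V, ⟨X', hX'⟩, t⟩)) q
      refine ⟨Topos46.epsEquiv b.left, ?_⟩
      change f.left.hom.app (op V) (Topos46.epsEquiv b.left) = y
      rw [← Topos46.epsEquiv_comp]
      exact (congrArg Topos46.epsEquiv (congrArg CommaMorphism.left hb)).trans
        (Equiv.apply_symm_apply _ _)
  exact hcons f hleft hright

end Groth.Agent.Giraud45
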