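import Groth.Agent.Giraud45.Cov
import Mathlib.CategoryTheory.Sites.Sheaf
import Mathlib.CategoryTheory.InducedCategory
import Mathlib.CategoryTheory.ObjectProperty.Small

/-!
The site on a small generating full subcategory, the restricted Yoneda functor, and Giraud's theorem.
-/

set_option autoImplicit false
universe u v w

open CategoryTheory Limits Opposite

namespace Groth.Agent.Giraud45

variable {E : Type v} [Category.{u} E] [HasFiniteLimits E]
  (hb : SGA4.HasDisjointUniversalCoproducts.{v, u} E) (hc : EffRel E)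
  {C : Type u} [SmallCategory C] (F : C ⥤ E) [F.Full] [F.Faithful]

/-- `F` is generating. -/
def Gen : Prop := ∀ Z : E, Cov (fun a : Σ c : C, F.obj c ⟶ Z => a.2)

variable (hgen : Gen F)

include hb hc in
lemma Cov.quotient {A B : E} {π : A ⟶ B}
    (heff : ∀ (B' : E) (g : B' ⟶ B), EffectiveEpi (pullback.snd π g)) :
    Cov (fun _ : PUnit.{u + 1} => π) := by
  intro M m _ hm
  obtain ⟨h, hh⟩ := hm ⟨⟩
  refine Cov.single_pullback heff (𝟙 B) m fun _ => ⟨pullback.fst π (𝟙 B) ≫ h, ?_⟩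
  rw [Category.assoc, hh, pullback.condition, Category.comp_id]

include hb hc hgen in
/-- Descent along a covering family, compatibility being tested on the generators. -/
lemma existsUnique_desc {X : E} {ι : Type u} {G : ι → E} {g : ∀ i, G i ⟶ X} (hg : Cov g) {Z : E}
    (k : ∀ i, G i ⟶ Z)
    (hk : ∀ i j (c : C) (a : F.obj c ⟶ G i) (b : F.obj c ⟶ G j),
      a ≫ g i = b ≫ g j → a ≫ k i = b ≫ k j) :
    ∃! d : X ⟶ Z, ∀ i, g i ≫ d = k i := by
  obtain ⟨c, hcol, -, -⟩ := hb ι G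
  let p := Cofan.IsColimit.desc hcol g
  let K := Cofan.IsColimit.desc hcol k
  obtain ⟨B, π, m, _, hfac, heff⟩ := exists_image hc p
  have : IsIso m := hg m fun i => ⟨c.inj i ≫ π, by
    rw [Category.assoc, hfac, Cofan.IsColimit.fac]⟩
  have key : ∀ {T : E} (x y : T ⟶ c.pt), x ≫ p = y ≫ p → x ≫ K = y ≫ K := by
    intro T x y hxy
    apply (hgen T).hom_ext
    rintro ⟨c₀, t⟩
    apply (cov_pullback_inj hb hc c hcol (t ≫ x)).hom_ext
    intro i
    apply (cov_pullback_inj hb hc c hcol (pullback.fst (t ≫ x) (c.inj i) ≫ t ≫ y)).hom_ext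
    intro j
    apply (hgen _).hom_ext
    rintro ⟨c₁, w⟩
    have e₁ : pullback.fst (t ≫ x) (c.inj i) ≫ t ≫ x = pullback.snd _ _ ≫ c.inj i := pullback.condition
    have e₂ : pullback.fst (pullback.fst (t ≫ x) (c.inj i) ≫ t ≫ y) (c.inj j) ≫
        pullback.fst (t ≫ x) (c.inj i) ≫ t ≫ y = pullback.snd _ _ ≫ c.inj j := pullback.condition
    have h := hk i j c₁ (w ≫ pullback.fst _ (c.inj j) ≫ pullback.snd (t ≫ x) (c.inj i))
      (w ≫ pullback.snd (pullback.fst (t ≫ x) (c.inj i) ≫ t ≫ y) (c.inj j)) ?_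
    · have h1 := congrArg (fun z => z ≫ K) e₁
      have h2 := congrArg (fun z => z ≫ K) e₂
      simp only [Category.assoc, Cofan.IsColimit.fac, K] at h h1 h2 ⊢
      rw [h1, h2]
      exact h
    · have h1 := congrArg (fun z => z ≫ p) e₁
      have h2 := congrArg (fun z => z ≫ p) e₂
      simp only [Category.assoc, Cofan.IsColimit.fac, p] at h1 h2 hxy ⊢
      rw [← h1, ← h2]
      simp only [p] at *
      rw [hxy]
  have := heff B (𝟙 B)
  have hcompat : ∀ {T : E} (g₁ g₂ : T ⟶ Limits.pullback π (𝟙 B)),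
      g₁ ≫ pullback.snd π (𝟙 B) = g₂ ≫ pullback.snd π (𝟙 B) →
      g₁ ≫ pullback.fst π (𝟙 B) ≫ K = g₂ ≫ pullback.fst π (𝟙 B) ≫ K := by
    intro T g₁ g₂ e
    rw [← Category.assoc, ← Category.assoc]
    apply key
    rw [← hfac]
    have := congrArg (fun z => z ≫ m) e
    simpa [pullback.condition_assoc] using this
  let d' : B ⟶ Z :=
    EffectiveEpi.desc (pullback.snd π (𝟙 B)) (pullback.fst π (𝟙 B) ≫ K) hcompat
  have hd' : π ≫ d' = K := by
    let l : c.pt ⟶ Limits.pullback π (𝟙 B) := pullback.lift (𝟙 c.pt) π (by simp)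
    have h1 : π = l ≫ pullback.snd π (𝟙 B) := (pullback.lift_snd _ _ _).symm
    conv_lhs => rw [h1]
    rw [Category.assoc, EffectiveEpi.fac, ← Category.assoc, pullback.lift_fst, Category.id_comp]
  refine ⟨inv m ≫ d', fun i => ?_, fun d hd => ?_⟩
  · have : c.inj i ≫ p = g i := Cofan.IsColimit.fac _ _ _
    rw [← this, ← hfac]
    simp [hd', K]
  · rw [← cancel_epi m, IsIso.hom_inv_id_assoc]
    have := Cov.quotient hb hc heff
    apply this.hom_ext
    intro _
    rw [hd', ← Category.assoc, hfac]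
    exact Cofan.IsColimit.hom_ext hcol _ _ fun i => by
      rw [← Category.assoc, Cofan.IsColimit.fac, hd i, Cofan.IsColimit.fac]

/-- The family of arrows of a sieve, seen in `E`. -/
def sieveFam {X : C} (S : Sieve X) (a : Σ Y : C, {f : Y ⟶ X // S f}) : F.obj a.1 ⟶ F.obj X :=
  F.map a.2.1

omit [HasFiniteLimits E] [F.Full] [F.Faithful] in
lemma cov_sieve_of_fac {X : C} {S : Sieve X} {ι : Type w} {G : ι → E} {g : ∀ i, G i ⟶ F.obj X}
    (hg : Cov g) (h : ∀ i, ∃ (Y : C) (f : Y ⟶ X) (_ : S f) (t : G i ⟶ F.obj Y), t ≫ F.map f = g i) :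
    Cov (sieveFam F S) :=
  hg.of_fac fun i => by
    obtain ⟨Y, f, hf, t, ht⟩ := h i
    exact ⟨⟨Y, f, hf⟩, t, ht⟩

include hb hc hgen in
/-- Local factorisation through a covering family. -/
lemma cov_sieve_of_cov {B : E} {ι : Type u} {G : ι → E} {g : ∀ i, G i ⟶ B} (hg : Cov g) {X : C}
    (s : F.obj X ⟶ B) {S : Sieve X}
    (h : ∀ (Y : C) (f : Y ⟶ X) (i : ι) (t : F.obj Y ⟶ G i), F.map f ≫ s = t ≫ g i → S f) :
    Cov (sieveFam F S) := by
  refine cov_sieve_of_fac F
    ((Cov.pullback hb hc hg s).comp fun i => hgen (pullback s (g i))) ?_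
  rintro ⟨i, Y, t⟩
  obtain ⟨f, hf⟩ := F.map_surjective (t ≫ pullback.fst s (g i))
  exact ⟨Y, f, h Y f i (t ≫ pullback.snd s (g i)) (by simp [hf, pullback.condition]), 𝟙 _,
    by simp [hf]⟩

include hb hc hgen in
/-- The topology on the generators. -/
def topology : GrothendieckTopology C where
  sieves X := {S | Cov (sieveFam F S)}
  top_mem' X := cov_sieve_of_fac F (Cov.single_of_isIso.{u, v, u} (𝟙 (F.obj X)))
    fun _ => ⟨X, 𝟙 X, trivial, 𝟙 _, by simp⟩
  pullback_stable' X Y S f hS := by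
    refine cov_sieve_of_cov hb hc F hgen hS (F.map f) ?_
    rintro Z k ⟨W, a, ha⟩ t e
    obtain ⟨t', rfl⟩ := F.map_surjective t
    rw [sieveFam, ← F.map_comp, ← F.map_comp] at e
    show S (k ≫ f)
    rw [F.map_injective e]
    exact S.downward_closed ha t'
  transitive' X S hS R hR := by
    refine cov_sieve_of_fac F (Cov.comp hS (fun a => hR a.2.2)) ?_
    rintro ⟨⟨Y, f, hf⟩, Z, k, hk⟩
    exact ⟨Z, k ≫ f, hk, 𝟙 _, by simp [sieveFam]⟩

include hb hc hgen in
lemma isSheaf_restricted (Z : E) :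
    Presieve.IsSheaf (topology hb hc F hgen) (F.op ⋙ yoneda.obj Z) := by
  intro X S hS x hx
  obtain ⟨d, hd, hu⟩ := existsUnique_desc hb hc F hgen hS
    (fun a => x a.2.1 a.2.2) (fun a b c p q e => by
      obtain ⟨p', rfl⟩ := F.map_surjective p
      obtain ⟨q', rfl⟩ := F.map_surjective q
      rw [sieveFam, sieveFam, ← F.map_comp, ← F.map_comp] at e
      exact hx p' q' a.2.2 b.2.2 (F.map_injective e))
  exact ⟨d, fun Y f hf => hd ⟨Y, f, hf⟩, fun d' hd' => hu d' fun a => hd' a.2.1 a.2.2⟩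

/-- The restricted Yoneda functor. -/
def Φ : E ⥤ Sheaf (topology hb hc F hgen) (Type u) where
  obj Z := ⟨F.op ⋙ yoneda.obj Z,
    (isSheaf_iff_isSheaf_of_type _ _).2 (isSheaf_restricted hb hc F hgen Z)⟩
  map f := ⟨Functor.whiskerLeft F.op (yoneda.map f)⟩

lemma faithful_Φ : (Φ hb hc F hgen).Faithful where
  map_injective {X Y} f g e := (hgen X).hom_ext fun a =>
    ConcreteCategory.congr_hom (NatTrans.congr_app (congrArg (fun t : (Φ hb hc F hgen).obj X ⟶ (Φ hb hc F hgen).obj Y => t.hom) e) (op a.1)) a.2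

lemma full_Φ : (Φ hb hc F hgen).Full where
  map_surjective {X Y} τ := by
    have hk : ∀ (a b : Σ c : C, F.obj c ⟶ X) (c : C) (p : F.obj c ⟶ F.obj a.1)
        (q : F.obj c ⟶ F.obj b.1), p ≫ a.2 = q ≫ b.2 →
        p ≫ (τ.hom.app (op a.1) a.2 : F.obj a.1 ⟶ Y) = q ≫ (τ.hom.app (op b.1) b.2 : F.obj b.1 ⟶ Y) := by
      intro a b c p q e
      obtain ⟨p', rfl⟩ := F.map_surjective p
      obtain ⟨q', rfl⟩ := F.map_surjective q
      exact (NatTrans.naturality_apply τ.hom p'.op a.2).symm.trans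
        ((congrArg (τ.hom.app (op c)) e).trans (NatTrans.naturality_apply τ.hom q'.op b.2))
    obtain ⟨d, hd, -⟩ := existsUnique_desc hb hc F hgen (hgen X) _ hk
    refine ⟨d, ?_⟩
    apply ObjectProperty.hom_ext
    ext c t
    exact hd ⟨c.unop, t⟩

section essSurj

variable (H : Sheaf (topology hb hc F hgen) (Type u))

lemma ext_of_mem {X : C} {S : Sieve X} (hS : S ∈ topology hb hc F hgen X) {s t : H.obj.obj (op X)}
    (h : ∀ ⦃Y : C⦄ (f : Y ⟶ X), S f → H.obj.map f.op s = H.obj.map f.op t) : s = t :=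
  (((isSheaf_iff_isSheaf_of_type _ _).1 H.property _ hS).isSeparatedFor).ext h

variable (c : Cofan (fun p : Σ X : C, H.obj.obj (op X) => F.obj p.1)) (hcol : IsColimit c)

include hcol in
lemma val_eq {Y : C} {p q : Σ X : C, H.obj.obj (op X)} (a : Y ⟶ p.1) (b : Y ⟶ q.1)
    (e : F.map a ≫ c.inj p = F.map b ≫ c.inj q) :
    H.obj.map a.op p.2 = H.obj.map b.op q.2 := by
  by_cases hpq : p = q
  · subst hpq
    have := mono_inj hb c hcol p
    rw [F.map_injective ((cancel_mono (c.inj p)).1 e)]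
  · refine ext_of_mem hb hc F hgen H (S := ⊥) ?_ fun Z f hf => hf.elim
    exact cov_sieve_of_fac F (cov_empty_of_inj_eq hb c hcol hpq _ _ e) fun i => i.elim

/-- Two sections of the coproduct are related when they have the same values in `H`. -/
def Rel {X : C} (x y : F.obj X ⟶ c.pt) : Prop :=
  ∀ ⦃Y : C⦄ (h : Y ⟶ X) (p q : Σ X : C, H.obj.obj (op X)) (a : Y ⟶ p.1) (b : Y ⟶ q.1),
    F.map h ≫ x = F.map a ≫ c.inj p → F.map h ≫ y = F.map b ≫ c.inj q →
      H.obj.map a.op p.2 = H.obj.map b.op q.2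

/-- The sieve where a section of the coproduct factors through a coprojection. -/
def decSieve {X : C} (x : F.obj X ⟶ c.pt) : Sieve X where
  arrows Y h := ∃ (p : Σ X : C, H.obj.obj (op X)) (a : Y ⟶ p.1), F.map h ≫ x = F.map a ≫ c.inj p
  downward_closed := by
    rintro Y Z h ⟨p, a, e⟩ k
    exact ⟨p, k ≫ a, by simp [e]⟩

include hcol in
lemma decSieve_mem {X : C} (x : F.obj X ⟶ c.pt) :
    decSieve hb hc F hgen H c x ∈ topology hb hc F hgen X :=
  cov_sieve_of_cov hb hc F hgen (Cov.of_cofan c hcol) x fun Y f p t e => by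
    obtain ⟨t', rfl⟩ := F.map_surjective t
    exact ⟨p, t', e⟩

lemma Rel.restrict {X Y : C} {x y : F.obj X ⟶ c.pt} (r : Rel hb hc F hgen H c x y) (h : Y ⟶ X) :
    Rel hb hc F hgen H c (F.map h ≫ x) (F.map h ≫ y) := fun Z k p q a b e₁ e₂ =>
  r (k ≫ h) p q a b (by rw [F.map_comp, Category.assoc, e₁]) (by rw [F.map_comp, Category.assoc, e₂])

lemma Rel.of_local {X : C} {x y : F.obj X ⟶ c.pt} {S : Sieve X}
    (hS : S ∈ topology hb hc F hgen X)
    (r : ∀ ⦃Y : C⦄ (f : Y ⟶ X), S f → Rel hb hc F hgen H c (F.map f ≫ x) (F.map f ≫ y)) :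
    Rel hb hc F hgen H c x y := by
  intro Y h p q a b e₁ e₂
  refine ext_of_mem hb hc F hgen H ((topology hb hc F hgen).pullback_stable h hS) fun Z k hk => ?_
  have := r _ hk (𝟙 Z) p q (k ≫ a) (k ≫ b) (by simp [e₁]) (by simp [e₂])
  simpa using this

include hcol in
lemma equivalence_rel (X : C) : Equivalence (Rel hb hc F hgen H c (X := X)) where
  refl _ := fun _ _ _ _ _ _ e₁ e₂ => val_eq hb hc F hgen H c hcol _ _ (e₁.symm.trans e₂)
  symm r := fun _ h p q a b e₁ e₂ => (r h q p b a e₂ e₁).symm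
  trans {x y z} r r' := fun Y h p q a b e₁ e₂ =>
    ext_of_mem hb hc F hgen H (decSieve_mem hb hc F hgen H c hcol (F.map h ≫ y))
      fun Z k ⟨s, d, e⟩ => by
        have h₁ := r (k ≫ h) p s (k ≫ a) d (by simp [e₁]) (by simpa using e)
        have h₂ := r' (k ≫ h) s q d (k ≫ b) (by simpa using e) (by simp [e₂])
        simpa using h₁.trans h₂

include hcol in
lemma exists_quotient : ∃ (B : E) (π : c.pt ⟶ B),
    (∀ {X : C} (x y : F.obj X ⟶ c.pt), x ≫ π = y ≫ π ↔ Rel hb hc F hgen H c x y) ∧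
    Cov (fun _ : PUnit.{u + 1} => π) := by
  let r := fun {X : C} (x y : F.obj X ⟶ c.pt) => Rel hb hc F hgen H c x y
  obtain ⟨d, hd, -, -⟩ := hb (Σ X : C, {z : F.obj X ⟶ c.pt ⨯ c.pt //
    r (z ≫ prod.fst) (z ≫ prod.snd)}) (fun k => F.obj k.1)
  obtain ⟨R, σ, m, _, hfac, heff⟩ := exists_image hc (Cofan.IsColimit.desc hd fun k => k.2.1)
  have mem : ∀ {X : C} (z : F.obj X ⟶ c.pt ⨯ c.pt),
      (∃ s, s ≫ m = z) ↔ r (z ≫ prod.fst) (z ≫ prod.snd) := by
    intro X z
    constructor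
    · rintro ⟨s, rfl⟩
      have hcov := Cov.comp (Cov.quotient hb hc heff) (fun _ => Cov.of_cofan d hd)
      let S : Sieve X :=
        { arrows := fun Y f => r (F.map f ≫ (s ≫ m) ≫ prod.fst) (F.map f ≫ (s ≫ m) ≫ prod.snd)
          downward_closed := fun {Y Z f} hf k => by
            have := Rel.restrict hb hc F hgen H c hf k
            simpa using this }
      refine Rel.of_local hb hc F hgen H c (S := S) ?_ fun Y f hf => hf
      refine cov_sieve_of_cov hb hc F hgen hcov s ?_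
      rintro Y f ⟨u0, k⟩ t e
      obtain ⟨t', rfl⟩ := F.map_surjective t
      have e' : F.map f ≫ s ≫ m = F.map t' ≫ k.2.1 := by
        rw [← Category.assoc, e]
        simp [hfac]
      show r _ _
      have := Rel.restrict hb hc F hgen H c k.2.2 t'
      simp only [← Category.assoc] at e' this ⊢
      rw [e']
      exact this
    · intro h
      exact ⟨d.inj ⟨X, z, h⟩ ≫ σ, by rw [Category.assoc, hfac, Cofan.IsColimit.fac]⟩
  have hR : SGA4.IsEquivRel (m ≫ prod.fst) (m ≫ prod.snd) := by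
    intro T
    refine ⟨fun f g e => (cancel_mono m).1 ?_, ?_⟩
    · apply prod.hom_ext
      · simpa using congrArg Prod.fst e
      · simpa using congrArg Prod.snd e
    · have key : ∀ a b : T ⟶ c.pt, (∃ f : T ⟶ R, f ≫ m ≫ prod.fst = a ∧ f ≫ m ≫ prod.snd = b) ↔
          ∀ (X : C) (t : F.obj X ⟶ T), r (t ≫ a) (t ≫ b) := by
        intro a b
        constructor
        · rintro ⟨f, rfl, rfl⟩ X t
          have := (mem (t ≫ f ≫ m)).1 ⟨t ≫ f, by simp⟩
          simpa using this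
        · intro h
          obtain ⟨f, hf⟩ := (hgen T).exists_lift (m := m) (prod.lift a b) fun i => by
            refine (mem _).2 ?_
            rw [prod.comp_lift, prod.lift_fst, prod.lift_snd]
            exact h i.1 i.2
          exact ⟨f, by rw [← Category.assoc, hf, prod.lift_fst],
            by rw [← Category.assoc, hf, prod.lift_snd]⟩
      have eqv := fun X => equivalence_rel hb hc F hgen H c hcol X
      exact ⟨fun a => (key a a).2 fun X t => (eqv X).refl _,
        fun h => (key _ _).2 fun X t => (eqv X).symm ((key _ _).1 h X t),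
        fun h h' => (key _ _).2 fun X t => (eqv X).trans ((key _ _).1 h X t) ((key _ _).1 h' X t)⟩
  obtain ⟨B, π, hpb, -, hu⟩ := hc _ _ _ _ hR
  refine ⟨B, π, fun {X} x y => ⟨fun e => ?_, fun h => ?_⟩, Cov.quotient hb hc hu⟩
  · have := (mem (hpb.lift x y e ≫ m)).1 ⟨_, rfl⟩
    simpa using this
  · obtain ⟨s, hs⟩ := (mem (prod.lift x y)).2 (by rw [prod.lift_fst, prod.lift_snd]; exact h)
    have h1 : s ≫ m ≫ prod.fst = x := by rw [← Category.assoc, hs, prod.lift_fst]
    have h2 : s ≫ m ≫ prod.snd = y := by rw [← Category.assoc, hs, prod.lift_snd]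
    rw [← h1, ← h2]
    simpa only [Category.assoc] using congrArg (s ≫ ·) hpb.w

lemma mem_essImage : (Φ hb hc F hgen).essImage H := by
  obtain ⟨c, hcol, -, -⟩ := hb (Σ X : C, H.obj.obj (op X)) (fun p => F.obj p.1)
  obtain ⟨B, π, hπ, hcov⟩ := exists_quotient hb hc F hgen H c hcol
  let θ : ∀ {X : C}, H.obj.obj (op X) → (F.obj X ⟶ B) := fun {X} s => c.inj ⟨X, s⟩ ≫ π
  have θnat : ∀ {X Y : C} (h : Y ⟶ X) (s : H.obj.obj (op X)),
      F.map h ≫ θ s = θ (H.obj.map h.op s) := by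
    intro X Y h s
    show F.map h ≫ c.inj ⟨X, s⟩ ≫ π = c.inj ⟨Y, H.obj.map h.op s⟩ ≫ π
    rw [← Category.assoc, hπ]
    intro Z k p q a b e₁ e₂
    have v₁ := val_eq hb hc F hgen H c hcol (p := ⟨X, s⟩) (q := p) (k ≫ h) a (by simpa using e₁)
    have v₂ := val_eq hb hc F hgen H c hcol (p := ⟨Y, H.obj.map h.op s⟩) (q := q) k b e₂
    rw [← v₁, ← v₂]
    simp
  have θinj : ∀ {X : C}, Function.Injective (θ (X := X)) := by
    intro X s t e
    have := (hπ _ _).1 e (𝟙 X) ⟨X, s⟩ ⟨X, t⟩ (𝟙 X) (𝟙 X) rfl rfl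
    simpa using this
  have θsurj : ∀ {X : C}, Function.Surjective (θ (X := X)) := by
    intro X t
    let S : Sieve X :=
      { arrows := fun Y f => ∃ s, θ s = F.map f ≫ t
        downward_closed := fun {Y Z f} ⟨s, hs⟩ k => ⟨H.obj.map k.op s, by
          rw [← θnat, hs, F.map_comp, Category.assoc]⟩ }
    have hS : S ∈ topology hb hc F hgen X := by
      refine cov_sieve_of_cov hb hc F hgen (Cov.comp hcov (fun _ => Cov.of_cofan c hcol)) t ?_
      rintro Y f ⟨u0, p⟩ a e
      obtain ⟨a', rfl⟩ := F.map_surjective a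
      exact ⟨H.obj.map a'.op p.2, (θnat a' p.2).symm.trans e.symm⟩
    obtain ⟨s, hs, -⟩ := (isSheaf_iff_isSheaf_of_type _ _).1 H.property S hS
      (fun Y f hf => hf.choose) fun Y₁ Y₂ W g₁ g₂ f₁ f₂ h₁ h₂ e => θinj (by
        rw [← θnat, ← θnat, h₁.choose_spec, h₂.choose_spec, ← Category.assoc, ← Category.assoc,
          ← F.map_comp, ← F.map_comp, e])
    refine ⟨s, ?_⟩
    refine Cov.hom_ext hS (fun a => ?_)
    obtain ⟨Y, f, hf⟩ := a
    show F.map f ≫ θ s = F.map f ≫ t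
    rw [θnat, hs f hf]
    exact hf.choose_spec
  let τ : H.obj ⟶ F.op ⋙ yoneda.obj B :=
    { app := fun X => TypeCat.ofHom fun s => θ (X := X.unop) s
      naturality := fun X Y h => by
        ext s
        exact (θnat h.unop s).symm }
  have : IsIso τ := by
    rw [NatTrans.isIso_iff_isIso_app]
    intro X
    rw [isIso_iff_bijective]
    exact ⟨θinj, θsurj⟩
  exact ⟨B, ⟨((fullyFaithfulSheafToPresheaf (topology hb hc F hgen) (Type u)).preimageIso (X := H) (Y := (Φ hb hc F hgen).obj B) (@asIso _ _ _ _ τ this)).symm⟩⟩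

end essSurj

include hb hc hgen in
/-- A category satisfying Giraud's axioms is equivalent to sheaves on a generating subcategory. -/
lemma nonempty_equiv : Nonempty (E ≌ Sheaf (topology hb hc F hgen) (Type u)) := by
  have := faithful_Φ hb hc F hgen
  have := full_Φ hb hc F hgen
  have : (Φ hb hc F hgen).EssSurj := ⟨mem_essImage hb hc F hgen⟩
  have : (Φ hb hc F hgen).IsEquivalence := { }
  exact ⟨(Φ hb hc F hgen).asEquivalence⟩

omit [F.Full] [F.Faithful] in
include hb hc in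
/-- Giraud's theorem. -/
theorem giraud (hd : ∃ P : ObjectProperty E, ObjectProperty.Small.{u} P ∧ P.IsDetecting) :
    SGA4.IsTopos.{v, u} E := by
  obtain ⟨P, hP, hdet⟩ := hd
  let o : Shrink.{u} (Subtype P) → E := fun i => ((equivShrink (Subtype P)).symm i).1
  have hgen : Gen (inducedFunctor o) := by
    intro Z M m _ hm
    refine hdet m fun G hG h => ?_
    have : ∃ i, o i = G := ⟨equivShrink _ ⟨G, hG⟩, by simp [o]⟩
    obtain ⟨i, rfl⟩ := this
    obtain ⟨h', hh'⟩ := hm ⟨i, h⟩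
    exact ⟨h', hh', fun y hy => (cancel_mono m).1 (hy.trans hh'.symm)⟩
  exact ⟨InducedCategory E o, inferInstance, topology hb hc (inducedFunctor o) hgen,
    nonempty_equiv hb hc (inducedFunctor o) hgen⟩

end Groth.Agent.Giraud45
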